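import Cfsg.Agent.Lib.RankTwoResistant.Group
import Cfsg.Agent.Lib.Fusion.Essential

/-!
Arithmetic in the groups of the third family, and the maximal subgroup `⟨x⟩ B`.
-/

set_option autoImplicit false
set_option linter.unusedSectionVars false

namespace Cfsg.Agent.Lib.RankTwoResistant

open Cfsg Cfsg.FusionSystem Cfsg.Agent.Lib.Fusion

variable {Ω : Type*} [Group Ω]

/-- The maximal subgroup generated by `x` and `B`. -/
abbrev grpN (p : ℕ) (x y z : Ω) : Subgroup Ω := Subgroup.closure ({x, y, z ^ p} : Set Ω)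

variable {p : ℕ} [hp : Fact p.Prime] {S : Subgroup Ω} [Finite S] {x y z : Ω} {m s : ℕ}

namespace Fam

variable (h : Fam p S x y z m s)
include h

theorem mul_A (i j k l : ℤ) : y ^ i * z ^ j * (y ^ k * z ^ l) = y ^ (i + k) * z ^ (j + l) := by
  rw [zpow_add, zpow_add, mul_assoc, ← mul_assoc (z ^ j), ← (h.yz.zpow_zpow k j).eq]
  simp only [mul_assoc]

theorem zpow_A (i j n : ℤ) : (y ^ i * z ^ j) ^ n = y ^ (i * n) * z ^ (j * n) := by
  rw [(h.yz.zpow_zpow i j).mul_zpow, zpow_mul, zpow_mul]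

theorem eq_A {i j k l : ℤ} (he : y ^ i * z ^ j = y ^ k * z ^ l) :
    (p : ℤ) ∣ i - k ∧ ((p ^ (m + 1) : ℕ) : ℤ) ∣ j - l := by
  refine h.unique ?_
  have e := h.mul_A i j (-k) (-l)
  rw [← sub_eq_add_neg, ← sub_eq_add_neg] at e
  rw [← e, he, h.mul_A, add_neg_cancel, add_neg_cancel, zpow_zero, zpow_zero, one_mul]

theorem conj_pow_A (t : ℕ) : ∃ e : ℤ, ∀ i j : ℤ, (x ^ t)⁻¹ * (y ^ i * z ^ j) * x ^ t =
    y ^ (i + t * j) * z ^ (j + ((s * p ^ m : ℕ) : ℤ) * (t * i + e * j)) := by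
  obtain ⟨e, he⟩ := h.conj_pow_z t
  refine ⟨e, fun i j => ?_⟩
  have e0 : (x ^ t)⁻¹ * (y ^ i * z ^ j) * x ^ t = MulAut.conj (x ^ t)⁻¹ (y ^ i * z ^ j) := by
    rw [MulAut.conj_apply, inv_inv]
  have e1 : MulAut.conj (x ^ t)⁻¹ y = y ^ (1 : ℤ) * z ^ (((s * p ^ m : ℕ) : ℤ) * t) := by
    rw [zpow_mul, zpow_natCast, zpow_natCast, zpow_one]
    rw [MulAut.conj_apply, inv_inv]; exact h.conj_pow_y t
  have e2 : MulAut.conj (x ^ t)⁻¹ z = y ^ (t : ℤ) * z ^ (1 + ((s * p ^ m : ℕ) : ℤ) * e) := by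
    rw [zpow_add, zpow_mul, zpow_one, zpow_natCast, zpow_natCast, zpow_natCast, ← mul_assoc]
    rw [MulAut.conj_apply, inv_inv]; exact he
  rw [e0, map_mul, map_zpow, map_zpow, e1, e2, h.zpow_A, h.zpow_A, h.mul_A]
  congr 2 <;> ring

theorem xp_mem_Z : x ^ p ∈ grpZ p z := h.mem_Z_of_commute_x h.hxp ((Commute.refl x).pow_left p)

theorem zp_mem_Z : z ^ p ∈ grpZ p z := Subgroup.mem_zpowers _

theorem mem_Z_of_dvd {j : ℤ} (hj : (p : ℤ) ∣ j) : z ^ j ∈ grpZ p z := by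
  obtain ⟨c, rfl⟩ := hj
  rw [zpow_mul, zpow_natCast]
  exact Subgroup.zpow_mem _ h.zp_mem_Z _

theorem mem_B_of_dvd (i : ℤ) {j : ℤ} (hj : (p : ℤ) ∣ j) : y ^ i * z ^ j ∈ grpB p y z :=
  mul_mem (Subgroup.zpow_mem _ h.y_mem_B _) (h.Z_le_B (h.mem_Z_of_dvd hj))

theorem exists_B {v : Ω} (hv : v ∈ grpB p y z) : ∃ i j : ℤ, v = y ^ i * z ^ ((p : ℤ) * j) := by
  induction hv using Subgroup.closure_induction with
  | mem a ha =>
    rcases ha with rfl | rfl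
    · exact ⟨1, 0, by simp⟩
    · exact ⟨0, 1, by simp⟩
  | one => exact ⟨0, 0, by simp⟩
  | mul a b _ _ ha hb =>
    obtain ⟨i, j, rfl⟩ := ha
    obtain ⟨k, l, rfl⟩ := hb
    exact ⟨i + k, j + l, by rw [h.mul_A, mul_add]⟩
  | inv a _ ha =>
    obtain ⟨i, j, rfl⟩ := ha
    exact ⟨-i, -j, by rw [← zpow_neg_one (y ^ i * _), h.zpow_A]; ring_nf⟩

theorem dvd_of_mem_Z {i j : ℤ} (hv : y ^ i * z ^ j ∈ grpZ p z) : (p : ℤ) ∣ i ∧ (p : ℤ) ∣ j := by
  obtain ⟨c, hc⟩ := Subgroup.mem_zpowers_iff.1 hv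
  rw [← zpow_natCast, ← zpow_mul] at hc
  obtain ⟨h1, h2⟩ := h.eq_A (i := i) (j := j) (k := 0) (l := (p : ℤ) * c)
    (by rw [zpow_zero, one_mul, hc])
  rw [sub_zero] at h1
  refine ⟨h1, ?_⟩
  have h3 : (p : ℤ) ∣ ((p ^ (m + 1) : ℕ) : ℤ) :=
    Int.natCast_dvd_natCast.2 (dvd_pow_self p (Nat.succ_ne_zero m))
  have h4 := dvd_add (h3.trans h2) (Dvd.intro c rfl)
  rwa [sub_add_cancel] at h4

theorem eq_mul_of_not_dvd {i : ℤ} (hi : ¬ (p : ℤ) ∣ i) :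
    ∃ v : ℤ, y = (y ^ i) ^ v := by
  obtain ⟨u, v, huv⟩ : IsCoprime (p : ℤ) i :=
    (Nat.prime_iff_prime_int.1 hp.out).coprime_iff_not_dvd.2 hi
  refine ⟨v, ?_⟩
  have e : y = (y ^ (p : ℤ)) ^ u * (y ^ i) ^ v := by
    rw [← zpow_mul, ← zpow_mul, ← zpow_add, mul_comm (p : ℤ) u, mul_comm i v, huv, zpow_one]
  rwa [zpow_natCast, h.yp, one_zpow, one_mul] at e

theorem mem_A_of_commute {g : Ω} (hg : g ∈ S) {i j : ℤ} (hi : ¬ (p : ℤ) ∣ i) (hj : (p : ℤ) ∣ j)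
    (hc : Commute g (y ^ i * z ^ j)) : g ∈ grpA y z := by
  refine h.mem_A_of_commute_y hg ?_
  have h1 : Commute g (z ^ j) := (h.Z_central (h.mem_Z_of_dvd hj) hg).symm
  have h2 : Commute g (y ^ i) := by
    have := hc.mul_right h1.inv_right
    rwa [mul_inv_cancel_right] at this
  obtain ⟨v, hv⟩ := h.eq_mul_of_not_dvd hi
  rw [hv]
  exact h2.zpow_right v

theorem conj_z : z * x * z⁻¹ = x * y := by
  have e : z * x * z⁻¹ = x * ((x⁻¹ * z * x) * z⁻¹) := by group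
  rw [e, h.xz, mul_inv_cancel_right]

theorem conj_y : y * x * y⁻¹ = x * z ^ (s * p ^ m) := by
  have e : y * x * y⁻¹ = x * ((x⁻¹ * y * x) * y⁻¹) := by group
  rw [e, h.xy, (h.yz.pow_right _).eq, mul_inv_cancel_right]

theorem x_mem_normalizer_B : x ∈ Subgroup.normalizer (grpB p y z : Set Ω) := by
  have := finite_of_le (h.B_le_A.trans h.A_le)
  rw [← Subgroup.inv_mem_iff]
  refine mem_normalizer_of_finite fun a ha => ?_
  obtain ⟨i, j, rfl⟩ := h.exists_B ha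
  rw [inv_inv, h.conj_A]
  exact h.mem_B_of_dvd _ (dvd_add
    (dvd_mul_of_dvd_left (Int.natCast_dvd_natCast.2
      (dvd_mul_of_dvd_right (dvd_pow_self p (by have := h.m1; omega)) s)) _) (dvd_mul_right _ _))

theorem N_le : grpN p x y z ≤ S :=
  (Subgroup.closure_le _).2 (by rintro a (rfl | rfl | rfl); exacts [h.hx, h.hy, pow_mem h.hz _])

theorem x_mem_N : x ∈ grpN p x y z := Subgroup.subset_closure (Or.inl rfl)

theorem B_le_N : grpB p y z ≤ grpN p x y z :=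
  Subgroup.closure_mono fun _ hb => Or.inr hb

theorem exists_N {v : Ω} (hv : v ∈ grpN p x y z) : ∃ k : ℕ, ∃ b ∈ grpB p y z, v = x ^ k * b := by
  have hle : Subgroup.zpowers x ≤ Subgroup.normalizer (grpB p y z : Set Ω) :=
    Subgroup.zpowers_le.2 h.x_mem_normalizer_B
  have hN : grpN p x y z ≤ Subgroup.zpowers x ⊔ grpB p y z := by
    rw [Subgroup.closure_le]
    rintro a (rfl | rfl | rfl)
    · exact Subgroup.mem_sup_left (Subgroup.mem_zpowers _)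
    · exact Subgroup.mem_sup_right h.y_mem_B
    · exact Subgroup.mem_sup_right (h.Z_le_B h.zp_mem_Z)
  have hv' : v ∈ ((Subgroup.zpowers x ⊔ grpB p y z : Subgroup Ω) : Set Ω) := hN hv
  rw [Subgroup.coe_mul_of_left_le_normalizer_right _ _ hle] at hv'
  obtain ⟨u, hu, b, hb, rfl⟩ := hv'
  have hfin : IsOfFinOrder x := by
    refine orderOf_pos_iff.1 ?_
    rw [show orderOf x = orderOf (⟨x, h.hx⟩ : S) from orderOf_submonoid (⟨x, h.hx⟩ : S)]
    exact orderOf_pos _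
  obtain ⟨k, rfl⟩ := hfin.mem_powers_iff_mem_zpowers.2 hu
  exact ⟨k, b, hb, rfl⟩

theorem N_inf_A {v : Ω} (hv : v ∈ grpN p x y z) (hvA : v ∈ grpA y z) : v ∈ grpB p y z := by
  obtain ⟨k, b, hb, rfl⟩ := h.exists_N hv
  obtain ⟨c, rfl⟩ := (h.mem_A_iff (h.B_le_A hb)).1 hvA
  rw [pow_mul]
  exact mul_mem (Subgroup.pow_mem _ (h.Z_le_B h.xp_mem_Z) _) hb

theorem S_le_normalizer_N : S ≤ Subgroup.normalizer (grpN p x y z : Set Ω) := by
  have := finite_of_le h.N_le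
  rw [← h.gen, Subgroup.closure_le]
  rintro a (rfl | rfl | rfl)
  · exact Subgroup.le_normalizer h.x_mem_N
  · exact Subgroup.le_normalizer (h.B_le_N h.y_mem_B)
  · refine mem_normalizer_of_finite fun v hv => ?_
    obtain ⟨k, b, hb, rfl⟩ := h.exists_N hv
    rw [← conj_mul, ← conj_pow, h.conj_z, (h.commute_A h.z_mem_A (h.B_le_A hb)).eq,
      mul_inv_cancel_right]
    exact mul_mem (Subgroup.pow_mem _ (mul_mem h.x_mem_N (h.B_le_N h.y_mem_B)) _) (h.B_le_N hb)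

theorem isFullyNormalized_N (F : FusionSystem S) : F.IsFullyNormalized (grpN p x y z) := by
  refine ⟨h.N_le, fun Q _ => ?_⟩
  have : normalizerIn S (grpN p x y z) = S := inf_eq_left.2 h.S_le_normalizer_N
  rw [this]
  exact Subgroup.card_le_of_le (normalizerIn_le S Q)

end Fam

end Cfsg.Agent.Lib.RankTwoResistant
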