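import Cfsg.Agent.Lib.Fusion.Aut

/-!
Counting in groups generated by `x` and an abelian subgroup `⟨y, z⟩` normalized by `x`.
-/

set_option autoImplicit false
set_option linter.unusedSectionVars false

namespace Cfsg.Agent.Lib.RankTwoResistant.Counting

open Cfsg Cfsg.Agent.Lib.Fusion

variable {p : ℕ} [hp : Fact p.Prime] {G : Type*} [Group G] [Finite G] {x y z : G}

theorem exists_A (hyz : Commute y z) {a : G} (ha : a ∈ Subgroup.closure ({y, z} : Set G)) :
    ∃ (i : ℕ) (c : G), c ∈ Subgroup.zpowers z ∧ a = y ^ i * c := by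
  induction ha using Subgroup.closure_induction with
  | mem a ha =>
    rcases ha with rfl | rfl
    · exact ⟨1, 1, one_mem _, by simp⟩
    · exact ⟨0, a, Subgroup.mem_zpowers a, by simp⟩
  | one => exact ⟨0, 1, one_mem _, by simp⟩
  | mul a b _ _ ha hb =>
    obtain ⟨i, c, hc, rfl⟩ := ha
    obtain ⟨k, d, hd, rfl⟩ := hb
    refine ⟨i + k, c * d, mul_mem hc hd, ?_⟩
    obtain ⟨j, rfl⟩ := Subgroup.mem_zpowers_iff.1 hc
    rw [pow_add, mul_assoc, ← mul_assoc (z ^ j), ← ((hyz.zpow_right j).pow_left k).eq]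
    simp only [mul_assoc]
  | inv a _ ha =>
    obtain ⟨i, c, hc, rfl⟩ := ha
    obtain ⟨j, rfl⟩ := Subgroup.mem_zpowers_iff.1 hc
    obtain ⟨n, hn⟩ : y⁻¹ ∈ Submonoid.powers y :=
      (isOfFinOrder_of_finite y).mem_powers_iff_mem_zpowers.2 (inv_mem (Subgroup.mem_zpowers y))
    simp only at hn
    refine ⟨n * i, z ^ (-j), Subgroup.zpow_mem _ (Subgroup.mem_zpowers z) _, ?_⟩
    rw [pow_mul, hn, inv_pow, mul_inv_rev, ← zpow_neg,
      ((hyz.pow_left i).inv_left.zpow_right (-j)).eq]

theorem card_A_le (hyz : Commute y z) (hy : y ^ p = 1) :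
    Nat.card (Subgroup.closure ({y, z} : Set G)) ≤ p * orderOf z := by
  have hy' : y ∈ Subgroup.closure ({y, z} : Set G) :=
    Subgroup.subset_closure (Set.mem_insert y {z})
  have hz' : Subgroup.zpowers z ≤ Subgroup.closure ({y, z} : Set G) :=
    Subgroup.zpowers_le.2 (Subgroup.subset_closure (Set.mem_insert_of_mem y rfl))
  let f : Fin p × Subgroup.zpowers z → Subgroup.closure ({y, z} : Set G) := fun v =>
    ⟨y ^ (v.1 : ℕ) * (v.2 : G), mul_mem (pow_mem hy' _) (hz' v.2.2)⟩
  have hf : Function.Surjective f := fun a => by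
    obtain ⟨i, c, hc, he⟩ := exists_A hyz a.2
    refine ⟨(⟨i % p, Nat.mod_lt _ hp.out.pos⟩, ⟨c, hc⟩), Subtype.ext ?_⟩
    show y ^ (i % p) * c = a
    rw [he]
    conv_rhs => rw [← Nat.mod_add_div i p, pow_add, pow_mul, hy, one_pow, mul_one]
  have h := Nat.card_le_card_of_surjective f hf
  rwa [Nat.card_prod, Nat.card_fin, Nat.card_zpowers] at h

variable (hgen : Subgroup.closure ({x, y, z} : Set G) = ⊤)
  (h1 : x⁻¹ * y * x ∈ Subgroup.closure ({y, z} : Set G))
  (h2 : x⁻¹ * z * x ∈ Subgroup.closure ({y, z} : Set G))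

include hgen h1 h2

theorem decomp (g : G) : ∃ k : ℕ, ∃ a ∈ Subgroup.closure ({y, z} : Set G), g = x ^ k * a := by
  set A := Subgroup.closure ({y, z} : Set G) with hA
  have hn : x ∈ Subgroup.normalizer (A : Set G) := by
    rw [← Subgroup.inv_mem_iff]
    refine mem_normalizer_of_finite fun a ha => ?_
    suffices hle : A ≤ A.comap (MulAut.conj x⁻¹).toMonoidHom from hle ha
    rw [hA, Subgroup.closure_le]
    rintro b (rfl | rfl)
    · simpa using h1
    · simpa using h2
  have hS : (⊤ : Subgroup G) ≤ Subgroup.zpowers x ⊔ A := by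
    rw [← hgen, Subgroup.closure_le]
    rintro a (rfl | rfl | rfl)
    · exact Subgroup.mem_sup_left (Subgroup.mem_zpowers _)
    · exact Subgroup.mem_sup_right (Subgroup.subset_closure (Or.inl rfl))
    · exact Subgroup.mem_sup_right (Subgroup.subset_closure (Or.inr rfl))
  have hg' : g ∈ ((Subgroup.zpowers x ⊔ A : Subgroup G) : Set G) := hS trivial
  rw [Subgroup.coe_mul_of_left_le_normalizer_right _ _ (Subgroup.zpowers_le.2 hn)] at hg'
  obtain ⟨u, hu, a, ha, rfl⟩ := hg'
  obtain ⟨k, rfl⟩ := (isOfFinOrder_of_finite x).mem_powers_iff_mem_zpowers.2 hu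
  exact ⟨k, a, ha, rfl⟩

theorem card_le (hx : x ^ p = 1) :
    Nat.card G ≤ p * Nat.card (Subgroup.closure ({y, z} : Set G)) := by
  let f : Fin p × Subgroup.closure ({y, z} : Set G) → G := fun v => x ^ v.1.1 * v.2.1
  have hf : Function.Surjective f := fun g => by
    obtain ⟨k, a, ha, rfl⟩ := decomp hgen h1 h2 g
    refine ⟨(⟨k % p, Nat.mod_lt _ hp.out.pos⟩, ⟨a, ha⟩), ?_⟩
    show x ^ (k % p) * a = _
    conv_rhs => rw [← Nat.mod_add_div k p, pow_add, pow_mul, hx, one_pow, mul_one]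
  have h := Nat.card_le_card_of_surjective f hf
  rwa [Nat.card_prod, Nat.card_fin] at h

theorem card_le_of_mem (hx : x ∈ Subgroup.closure ({y, z} : Set G)) :
    Nat.card G ≤ Nat.card (Subgroup.closure ({y, z} : Set G)) := by
  have e : Subgroup.closure ({y, z} : Set G) = ⊤ := by
    rw [eq_top_iff, ← hgen, Subgroup.closure_le]
    rintro a (rfl | rfl | rfl)
    exacts [hx, Subgroup.subset_closure (Or.inl rfl), Subgroup.subset_closure (Or.inr rfl)]
  rw [e, Subgroup.card_top]

omit hgen h1 h2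

theorem pow_mul_of_central {a b c : G} (hba : b * a = a * b * c) (hc : ∀ g, Commute c g) (n : ℕ) :
    (a * b) ^ n = a ^ n * b ^ n * c ^ n.choose 2 := by
  have hb : ∀ k : ℕ, b ^ k * a = a * b ^ k * c ^ k := by
    intro k
    induction k with
    | zero => simp
    | succ k ih =>
      rw [pow_succ', mul_assoc, ih, ← mul_assoc, ← mul_assoc, hba, mul_assoc (a * b) c,
        (hc (b ^ k)).eq, pow_succ']
      simp only [mul_assoc]
  induction n with
  | zero => simp
  | succ n ih =>
    rw [pow_succ, ih, mul_assoc, ((hc (a * b)).pow_left _).eq, ← mul_assoc, mul_assoc (a ^ n),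
      ← mul_assoc (b ^ n), hb, pow_succ a, pow_succ b,
      Nat.choose_succ_succ, Nat.choose_one_right, pow_add]
    have hcb : c ^ n * b = b * c ^ n := ((hc b).pow_left n).eq
    simp only [mul_assoc]
    rw [← mul_assoc (c ^ n) b, hcb]
    simp only [mul_assoc]

end Cfsg.Agent.Lib.RankTwoResistant.Counting
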