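import Cfsg.Agent.Lib.RankTwoResistant.Basic

/-!
Automorphisms of the groups of the third family and extension of maps from `⟨x⟩ B`.
-/

set_option autoImplicit false
set_option linter.unusedSectionVars false

namespace Cfsg.Agent.Lib.RankTwoResistant

open Cfsg Cfsg.FusionSystem Cfsg.Agent.Lib.Fusion

variable {Ω : Type*} [Group Ω] {p : ℕ} [hp : Fact p.Prime] {S : Subgroup Ω} [Finite S]
  {x y z : Ω} {m s : ℕ}

namespace Fam

variable (h : Fam p S x y z m s)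
include h

theorem s_ne_zero : (s : ZMod p) ≠ 0 := fun e => h.hs ((ZMod.natCast_eq_zero_iff s p).1 e)

theorem dvd_of_pow_eq_one {i j : ℤ} (he : (y ^ i * z ^ j) ^ p = 1) :
    ((p ^ m : ℕ) : ℤ) ∣ j := by
  rw [← zpow_natCast, h.zpow_A] at he
  have h2 := (h.unique he).2
  rw [pow_succ, Nat.cast_mul] at h2
  exact Int.dvd_of_mul_dvd_mul_right (Int.natCast_ne_zero.2 hp.out.ne_zero) h2

theorem zmod_of_w {a : ℤ} (ha : ((p ^ (m + 1) : ℕ) : ℤ) ∣ ((s * p ^ m : ℕ) : ℤ) * a) :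
    ((a : ℤ) : ZMod p) = 0 := by
  rw [ZMod.intCast_zmod_eq_zero_iff_dvd]
  have h1 : ((p ^ m : ℕ) : ℤ) * p ∣ ((p ^ m : ℕ) : ℤ) * ((s : ℤ) * a) := by
    push_cast at ha ⊢
    rwa [← pow_succ, ← mul_assoc, mul_comm ((p : ℤ) ^ m) (s : ℤ)]
  have h2 := (mul_dvd_mul_iff_left (Int.natCast_ne_zero.2 (pow_ne_zero m hp.out.ne_zero))).1 h1
  exact ((Nat.prime_iff_prime_int.1 hp.out).dvd_or_dvd h2).resolve_left
    fun hd => h.hs (Int.natCast_dvd_natCast.1 hd)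

/-- An automorphism of `S` in the system that fixes `A` multiplies `x` by `± 1` modulo `A`. -/
theorem no_endo {F : FusionSystem S} {ψ : S →* Ω} (hψ : ψ ∈ F.Hom S) {t : ℕ}
    (ht : (t : ZMod p) ^ 2 ≠ 1) {a : Ω} (ha : a ∈ grpA y z) (hψx : ψ ⟨x, h.hx⟩ = x ^ t * a)
    (hψy : ψ ⟨y, h.hy⟩ ∈ grpA y z) : False := by
  set X : S := ⟨x, h.hx⟩ with hX
  set Y : S := ⟨y, h.hy⟩ with hY
  set Zs : S := ⟨z, h.hz⟩ with hZs
  obtain ⟨i, j, hij⟩ := h.exists_A hψy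
  have hj : (p : ℤ) ∣ j := by
    refine dvd_trans (Int.natCast_dvd_natCast.2 (dvd_pow_self p (by have := h.m1; omega)))
      (h.dvd_of_pow_eq_one (i := i) ?_)
    rw [← hij, ← map_pow, show Y ^ p = 1 from Subtype.ext h.yp, map_one]
  have hi : ¬ (p : ℤ) ∣ i := by
    rintro ⟨c, rfl⟩
    rw [zpow_mul, zpow_natCast, h.yp, one_zpow, one_mul] at hij
    have hc : Commute (ψ Y) (ψ X) := by
      rw [hij]; exact h.Z_central (h.mem_Z_of_dvd hj) (apply_mem hψ X)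
    have hc' : Y * X = X * Y := F.injective_of_mem hψ (by rw [map_mul, map_mul]; exact hc.eq)
    obtain ⟨c', hc''⟩ := Subgroup.mem_zpowers_iff.1
      (h.mem_Z_of_commute_x h.y_mem_A (congrArg Subtype.val hc'))
    exact h.hyz (Subgroup.mem_zpowers_iff.2 ⟨p * c', by rw [zpow_mul, zpow_natCast, hc'']⟩)
  have hψz : ψ Zs ∈ grpA y z := by
    refine h.mem_A_of_commute (apply_mem hψ Zs) hi hj ?_
    rw [← hij]
    exact (show Commute Zs Y from Subtype.ext h.yz.symm.eq).map ψ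
  obtain ⟨k, l, hkl⟩ := h.exists_A hψz
  obtain ⟨e, he⟩ := h.conj_pow_A t
  have hconj : ∀ i j : ℤ, (ψ X)⁻¹ * (y ^ i * z ^ j) * ψ X =
      y ^ (i + t * j) * z ^ (j + ((s * p ^ m : ℕ) : ℤ) * (t * i + e * j)) := fun i j => by
    rw [hψx, mul_inv_rev,
      show a⁻¹ * (x ^ t)⁻¹ * (y ^ i * z ^ j) * (x ^ t * a) =
        a⁻¹ * ((x ^ t)⁻¹ * (y ^ i * z ^ j) * x ^ t) * a by group, he, mul_assoc,
      (h.commute_A (h.mem_A _ _) ha).eq, inv_mul_cancel_left]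
  have e1 := congrArg ψ (show X⁻¹ * Y * X = Y * Zs ^ (s * p ^ m) from Subtype.ext h.xy)
  rw [map_mul, map_mul, map_mul, map_inv, map_pow, hij, hkl, hconj, ← zpow_natCast, h.zpow_A,
    h.mul_A] at e1
  have e2 := congrArg ψ (show X⁻¹ * Zs * X = Y * Zs from Subtype.ext h.xz)
  rw [map_mul, map_mul, map_mul, map_inv, hij, hkl, hconj, h.mul_A] at e2
  have hj' : ((j : ℤ) : ZMod p) = 0 := (ZMod.intCast_zmod_eq_zero_iff_dvd _ _).2 hj
  have hi' : ((i : ℤ) : ZMod p) ≠ 0 := fun e => hi ((ZMod.intCast_zmod_eq_zero_iff_dvd _ _).1 e)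
  have f1 : (((t : ℤ) * i + e * j - l : ℤ) : ZMod p) = 0 := by
    refine h.zmod_of_w ?_
    have h2 := (h.eq_A e1).2
    rwa [show ((s * p ^ m : ℕ) : ℤ) * ((t : ℤ) * i + e * j - l) =
      j + ((s * p ^ m : ℕ) : ℤ) * ((t : ℤ) * i + e * j) - (j + l * ((s * p ^ m : ℕ) : ℤ)) by ring]
  have f2 : (((t : ℤ) * l - i : ℤ) : ZMod p) = 0 := by
    refine (ZMod.intCast_zmod_eq_zero_iff_dvd _ _).2 ?_
    have h1 := (h.eq_A e2).1
    rwa [show (t : ℤ) * l - i = k + (t : ℤ) * l - (i + k) by ring]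
  push_cast at f1 f2
  rw [hj', mul_zero, add_zero] at f1
  exact ht (mul_right_cancel₀ hi' (by linear_combination (t : ZMod p) * f1 + f2))

theorem ext_A {i j k l : ℤ} (h1 : ((i : ℤ) : ZMod p) = k)
    (h2 : ((p ^ (m + 1) : ℕ) : ℤ) ∣ j - l) : y ^ i * z ^ j = y ^ k * z ^ l := by
  obtain ⟨c, hc⟩ := (ZMod.intCast_zmod_eq_zero_iff_dvd (i - k) p).1 (by push_cast; rw [h1, sub_self])
  obtain ⟨d, hd⟩ := h2
  have hi : y ^ (i - k) = 1 := by rw [hc, zpow_mul, zpow_natCast, h.yp, one_zpow]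
  have hj : z ^ (j - l) = 1 := by rw [hd, zpow_mul, zpow_natCast, ← h.oz, pow_orderOf_eq_one, one_zpow]
  rw [show i = (i - k) + k by ring, show j = (j - l) + l by ring, zpow_add, zpow_add, hi, hj,
    one_mul, one_mul]

/-- A map of the system on `⟨x⟩ B` preserving `B` extends to `S`. -/
theorem exists_extension {F : FusionSystem S} (hS : IsPGroup p S) (hF : F.IsSaturated p)
    {φ : grpN p x y z →* Ω} (hφ : φ ∈ F.Hom (grpN p x y z)) (hr : φ.range = grpN p x y z)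
    (hB : ∀ v (hv : v ∈ grpN p x y z), v ∈ grpB p y z → φ ⟨v, hv⟩ ∈ grpB p y z) :
    ∃ ψ ∈ F.Hom S, ∀ v (hv : v ∈ grpN p x y z) (hvS : v ∈ S), ψ ⟨v, hvS⟩ = φ ⟨v, hv⟩ := by
  have hrec := IsSaturated.receptive hS hF
    (IsSaturated.fullyCentralized hS hF (h.isFullyNormalized_N F))
  obtain ⟨ψ, hψ, hext⟩ := hrec.2 (grpN p x y z) φ hφ hr
  suffices hle : S ≤ extender S (grpN p x y z) φ by
    exact ⟨restr hle ψ, restr_mem F hψ hle, fun v hv hvS => hext v hv (hle hvS)⟩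
  set X : (grpN p x y z) := ⟨x, h.x_mem_N⟩ with hX
  set Y : (grpN p x y z) := ⟨y, h.B_le_N h.y_mem_B⟩ with hY
  have hxA : φ X ∉ grpA y z := fun hxA => by
    obtain ⟨⟨v, hv⟩, hvx⟩ : x ∈ φ.range := by rw [hr]; exact h.x_mem_N
    obtain ⟨k, b, hb, rfl⟩ := h.exists_N hv
    apply h.hxA
    refine (congrArg (fun r => r ∈ grpA y z) hvx).mp ?_
    rw [show (⟨x ^ k * b, hv⟩ : (grpN p x y z)) = X ^ k * ⟨b, h.B_le_N hb⟩ from rfl, map_mul, map_pow]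
    exact mul_mem (Subgroup.pow_mem _ hxA _) (h.B_le_A (hB _ _ hb))
  obtain ⟨t, a, ha, hta⟩ := h.decomp (apply_mem hφ X)
  have ht : (t : ZMod p) ≠ 0 := fun e =>
    hxA (by rw [hta, h.mem_A_iff ha]; exact (ZMod.natCast_eq_zero_iff t p).1 e)
  have hyB : φ Y ∈ grpB p y z := hB _ _ h.y_mem_B
  obtain ⟨k, l₀, hk⟩ := h.exists_B hyB
  obtain ⟨l, hl⟩ := h.dvd_of_pow_eq_one (i := k) (j := (p : ℤ) * l₀)
    (by rw [← hk, ← map_pow, show Y ^ p = 1 from Subtype.ext h.yp, map_one])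
  rw [hl] at hk
  obtain ⟨e, he⟩ := h.conj_pow_A t
  have hs := h.s_ne_zero
  set J : ℤ := (((((k : ℤ) : ZMod p) / t).val : ℕ) : ℤ) with hJ
  set I : ℤ := ((((((l : ℤ) : ZMod p) / s - ((e : ℤ) : ZMod p) * ((J : ℤ) : ZMod p)) / t).val : ℕ) : ℤ) with hI
  have hJ' : ((J : ℤ) : ZMod p) = ((k : ℤ) : ZMod p) / t := by simp [hJ]
  have hI' : ((I : ℤ) : ZMod p) =
      (((l : ℤ) : ZMod p) / s - ((e : ℤ) : ZMod p) * ((J : ℤ) : ZMod p)) / t := by simp [hI]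
  set g := y ^ I * z ^ J with hg
  have hgA : g ∈ grpA y z := h.mem_A I J
  have hgx : (x ^ t)⁻¹ * g * x ^ t = g * φ Y := by
    rw [hg, he, hk, h.mul_A]
    refine h.ext_A ?_ ?_
    · push_cast
      rw [hJ']
      field_simp
    · rw [show J + ((s * p ^ m : ℕ) : ℤ) * (t * I + e * J) - (J + ((p ^ m : ℕ) : ℤ) * l) =
        ((p ^ m : ℕ) : ℤ) * ((s : ℤ) * (t * I + e * J) - l) by push_cast; ring, pow_succ,
        Nat.cast_mul]
      refine mul_dvd_mul_left _ ((ZMod.intCast_zmod_eq_zero_iff_dvd _ p).1 ?_)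
      push_cast
      rw [hI']
      field_simp
      ring
  have hφx : g * φ X * g⁻¹ = φ X * φ Y := by
    have e1 : g * φ X * g⁻¹ = x ^ t * ((x ^ t)⁻¹ * g * x ^ t) * a * g⁻¹ := by rw [hta]; group
    rw [e1, hgx, hta]
    have c1 : Commute g (φ Y * a) := h.commute_A hgA (mul_mem (h.B_le_A hyB) ha)
    have c2 : Commute (φ Y) a := h.commute_A (h.B_le_A hyB) ha
    calc x ^ t * (g * φ Y) * a * g⁻¹ = x ^ t * (g * (φ Y * a) * g⁻¹) := by group
      _ = x ^ t * a * φ Y := by rw [c1.eq, mul_inv_cancel_right, c2.eq, mul_assoc]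
  have hzn : z ∈ Subgroup.normalizer ((grpN p x y z) : Set Ω) := h.S_le_normalizer_N h.hz
  let f1 : (grpN p x y z) →* Ω := φ.comp (conjAut hzn).toMonoidHom
  let f2 : (grpN p x y z) →* Ω := (MulAut.conj g).toMonoidHom.comp φ
  have hfB : ∀ v (hv : v ∈ (grpN p x y z)), v ∈ grpB p y z → f1 ⟨v, hv⟩ = f2 ⟨v, hv⟩ := fun v hv hvB => by
    show φ (conjAut hzn ⟨v, hv⟩) = g * φ ⟨v, hv⟩ * g⁻¹
    rw [(h.commute_A hgA (h.B_le_A (hB v hv hvB))).eq, mul_inv_cancel_right]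
    exact congrArg φ (Subtype.ext (by
      rw [conjAut_coe, (h.commute_A h.z_mem_A (h.B_le_A hvB)).eq, mul_inv_cancel_right]))
  have hf : ∀ v (hv : v ∈ (grpN p x y z)), f1 ⟨v, hv⟩ = f2 ⟨v, hv⟩ := by
    intro v hv
    obtain ⟨n, b, hb, rfl⟩ := h.exists_N hv
    rw [show (⟨x ^ n * b, hv⟩ : (grpN p x y z)) = X ^ n * ⟨b, h.B_le_N hb⟩ from rfl, map_mul, map_mul,
      map_pow, map_pow, hfB b (h.B_le_N hb) hb]
    congr 2
    show φ (conjAut hzn X) = g * φ X * g⁻¹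
    rw [hφx, ← map_mul]
    exact congrArg φ (Subtype.ext h.conj_z)
  have hz : z ∈ extender S (grpN p x y z) φ :=
    mem_extender.2 ⟨h.hz, hzn, g, h.A_le hgA, fun v hv => hf v.1 v.2⟩
  have hNe := le_extender h.N_le (apply_mem hφ)
  intro w hw
  rw [← h.gen] at hw
  refine (Subgroup.closure_le _).2 ?_ hw
  rintro b (rfl | rfl | rfl)
  exacts [hNe h.x_mem_N, hNe (h.B_le_N h.y_mem_B), hz]

end Fam

end Cfsg.Agent.Lib.RankTwoResistant
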