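import Cfsg.Agent.Lib.RankTwoResistant.Main

/-!
The three kinds of candidates for an essential subgroup in the third family.
-/

set_option autoImplicit false
set_option linter.unusedSectionVars false

namespace Cfsg.Agent.Lib.RankTwoResistant

open Cfsg Cfsg.FusionSystem Cfsg.Agent.Lib.Fusion

universe u

variable {p : ℕ} [hp : Fact p.Prime] {Ω : Type u} [Group Ω] {S : Subgroup Ω} [Finite S]
  {x y z : Ω} {m s : ℕ}

namespace Fam

variable (h : Fam p S x y z m s)
include h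

theorem conj_y_pow (r : ℕ) : y ^ r * x * (y ^ r)⁻¹ = x * (z ^ (s * p ^ m)) ^ r := by
  induction r with
  | zero => simp
  | succ r ih =>
    have hc : Commute (y ^ 1) ((z ^ (s * p ^ m)) ^ r) := ((h.yz.pow_right _).pow_left 1).pow_right r
    rw [pow_one] at hc
    calc y ^ (r + 1) * x * (y ^ (r + 1))⁻¹ = y * (y ^ r * x * (y ^ r)⁻¹) * y⁻¹ := by
          rw [pow_succ']; group
      _ = (y * x * y⁻¹) * (y * (z ^ (s * p ^ m)) ^ r * y⁻¹) := by rw [ih]; group
      _ = x * (z ^ (s * p ^ m)) ^ (r + 1) := by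
          rw [h.conj_y, hc.eq, mul_inv_cancel_right, mul_assoc, ← pow_succ']

/-- The elements `x⁻¹ a x a⁻¹`. -/
theorem commutator_x (i j : ℤ) :
    x⁻¹ * (y ^ i * z ^ j) * x * (y ^ i * z ^ j)⁻¹ = y ^ j * z ^ (((s * p ^ m : ℕ) : ℤ) * i) := by
  rw [h.conj_A, mul_inv_eq_iff_eq_mul, h.mul_A]
  congr 2 <;> ring

theorem Z_le_essential {F : FusionSystem S} {E : Subgroup Ω} (hE : F.IsEssential p E) :
    grpZ p z ≤ E := fun c hc => hE.1.2 E (isConj_refl F hE.1.1)
  (mem_centralizerIn.2 ⟨h.A_le (h.B_le_A (h.Z_le_B hc)),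
    fun e he => (h.Z_central hc (hE.1.1 he)).eq.symm⟩)

/-- The abelian maximal subgroup is not essential. -/
theorem not_le_A {F : FusionSystem S} (hS : IsPGroup p S) (hF : F.IsSaturated p) (hp5 : 5 ≤ p)
    {E : Subgroup Ω} (hE : F.IsEssential p E) : ¬ E ≤ grpA y z := by
  intro hle
  have hEA : E = grpA y z := le_antisymm hle fun a ha =>
    hE.1.2 E (isConj_refl F hE.1.1)
      (mem_centralizerIn.2 ⟨h.A_le ha, fun e he => (h.commute_A (hle he) ha).eq⟩)
  subst hEA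
  have := finite_of_le h.A_le
  have hab : IsMulCommutative (grpA y z) :=
    ⟨⟨fun a b => Subtype.ext (h.commute_A a.2 b.2).eq⟩⟩
  have hrk := frattini_index_le_of_two (hS.to_le h.A_le) (⟨y, h.y_mem_A⟩ : grpA y z) ⟨z, h.z_mem_A⟩
    fun v => by
      obtain ⟨i, j, hv⟩ := h.exists_A v.2
      obtain ⟨a, ha⟩ := exists_nat_pow (⟨y, h.y_mem_A⟩ : grpA y z) i
      obtain ⟨b, hb⟩ := exists_nat_pow (⟨z, h.z_mem_A⟩ : grpA y z) j
      exact ⟨a, b, by rw [ha, hb]; exact Subtype.ext hv⟩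
  rcases Cfsg.Agent.S5187.result p hS F hF _ hE hab hrk with ⟨hel, -⟩ | ⟨h3, -⟩
  · have hzp : z ^ p = 1 := hel.2 z h.z_mem_A
    have := orderOf_dvd_of_pow_eq_one hzp
    rw [h.oz] at this
    have h2 := (Nat.pow_dvd_pow_iff_le_right hp.out.one_lt).1 (by rwa [pow_one] : p ^ (m + 1) ∣ p ^ 1)
    have := h.m1
    omega
  · omega

theorem inf_A_le_B {E : Subgroup Ω} (hES : E < S) (hxE : x ∈ E) (hZE : grpZ p z ≤ E) {a : Ω}
    (ha : a ∈ E) (haA : a ∈ grpA y z) : a ∈ grpB p y z := by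
  obtain ⟨i, j, rfl⟩ := h.exists_A haA
  by_contra hB
  have hj : ¬ (p : ℤ) ∣ j := fun hd => hB (h.mem_B_of_dvd i hd)
  have h1 : y ^ j ∈ E := by
    have h2 := mul_mem (mul_mem (mul_mem (inv_mem hxE) ha) hxE) (inv_mem ha)
    rw [h.commutator_x] at h2
    refine (Subgroup.mul_mem_cancel_right _ ?_).1 h2
    exact hZE (h.mem_Z_of_dvd (dvd_mul_of_dvd_left (Int.natCast_dvd_natCast.2
      (dvd_mul_of_dvd_right (dvd_pow_self p (by have := h.m1; omega)) s)) _))
  obtain ⟨v, hv⟩ := h.eq_mul_of_not_dvd hj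
  have hyE : y ∈ E := by rw [hv]; exact Subgroup.zpow_mem _ h1 _
  have hzj : z ^ j ∈ E := (Subgroup.mul_mem_cancel_left _ (Subgroup.zpow_mem _ hyE i)).1 ha
  obtain ⟨a, b, hab⟩ : IsCoprime (p : ℤ) j :=
    (Nat.prime_iff_prime_int.1 hp.out).coprime_iff_not_dvd.2 hj
  have hzE : z ∈ E := by
    have e : z = (z ^ (p : ℤ)) ^ a * (z ^ j) ^ b := by
      rw [← zpow_mul, ← zpow_mul, ← zpow_add, mul_comm (p : ℤ) a, mul_comm j b, hab, zpow_one]
    rw [e]
    exact mul_mem (Subgroup.zpow_mem _ (hZE (h.mem_Z_of_dvd dvd_rfl)) _) (Subgroup.zpow_mem _ hzj _)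
  refine hES.not_ge ?_
  rw [← h.gen, Subgroup.closure_le]
  rintro c (rfl | rfl | rfl)
  exacts [hxE, hyE, hzE]

/-- `⟨x⟩ B` is not essential. -/
theorem N_not_essential {F : FusionSystem S} (hS : IsPGroup p S) (hF : F.IsSaturated p)
    (hp5 : 5 ≤ p) (hE : F.IsEssential p (grpN p x y z)) : False := by
  have := finite_of_le h.N_le
  set Y : grpN p x y z := ⟨y, h.B_le_N h.y_mem_B⟩ with hY
  by_cases hmv : ∃ γ ∈ F.autGroup (grpN p x y z), ((γ Y : grpN p x y z) : Ω) ∉ grpA y z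
  · obtain ⟨γ, hγ, hγy⟩ := hmv
    exact h.no_moving hS hF hp5 hγ hγy
  push Not at hmv
  let W : ℕ → Subgroup (grpN p x y z) := fun i =>
    if i ≤ m then (Subgroup.zpowers (z ^ p ^ (m + 1 - i))).subgroupOf _
    else if i = m + 1 then (grpB p y z).subgroupOf _ else ⊤
  have hzle : ∀ k, 1 ≤ k → Subgroup.zpowers (z ^ p ^ k) ≤ grpZ p z := fun k hk => by
    rw [Subgroup.zpowers_le]
    obtain ⟨j, rfl⟩ := Nat.exists_eq_add_of_le hk
    rw [pow_add, pow_one, pow_mul]
    exact Subgroup.pow_mem _ h.zp_mem_Z _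
  have hinv : ∀ α ∈ F.autGroup (grpN p x y z), ∀ i, ∀ v ∈ W i, α v ∈ W i := by
    intro α hα i v hv
    simp only [W] at hv ⊢
    split_ifs at hv ⊢ with h1 h2
    · obtain ⟨k, hk⟩ : ∃ k, m + 1 - i = k + 1 := ⟨m - i, by omega⟩
      rw [hk] at hv ⊢
      obtain ⟨d, hd⟩ := Subgroup.mem_zpowers_iff.1 (Subgroup.mem_subgroupOf.1 hv)
      set ζ : grpN p x y z := ⟨z ^ p, h.B_le_N (h.Z_le_B h.zp_mem_Z)⟩ with hζ
      obtain ⟨c, hc⟩ := Subgroup.mem_zpowers_iff.1 (h.Z_invariant α ζ h.zp_mem_Z)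
      have e : v = (ζ ^ p ^ k) ^ d := Subtype.ext (by
        rw [← hd, SubgroupClass.coe_zpow, SubgroupClass.coe_pow, hζ, pow_succ', pow_mul])
      rw [Subgroup.mem_subgroupOf, e, map_zpow, map_pow, SubgroupClass.coe_zpow,
        SubgroupClass.coe_pow, ← hc, pow_succ', pow_mul]
      refine Subgroup.mem_zpowers_iff.2 ⟨c * d, ?_⟩
      rw [zpow_mul, ← zpow_natCast ((z ^ p) ^ c), ← zpow_mul (z ^ p), mul_comm c, zpow_mul,
        zpow_natCast]
    · obtain ⟨j, hj⟩ := h.exists_B_nat (Subgroup.mem_subgroupOf.1 hv)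
      have e : v = Y ^ j * ((Y ^ j)⁻¹ * v) := by rw [mul_inv_cancel_left]
      rw [Subgroup.mem_subgroupOf, e, map_mul, map_pow, Subgroup.coe_mul, SubgroupClass.coe_pow]
      exact mul_mem (Subgroup.pow_mem _ (h.N_inf_A (α Y).2 (hmv α hα)) j)
        (h.Z_le_B (h.Z_invariant α _ hj))
    · trivial
  have hnorm : ∀ i, (W i).Normal := fun i => ⟨fun v hv g => by
    have hg : MulAut.conj g ∈ F.autGroup (grpN p x y z) := inn_le_autGroup F h.N_le ⟨g, rfl⟩
    simpa using hinv _ hg i v hv⟩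
  refine IsEssential.not_series hS hF hE W (m + 2) ?_ ?_ hinv ?_
  · simp only [W, Nat.zero_le, if_true, Nat.sub_zero]
    rw [Subgroup.eq_bot_iff_forall]
    intro v hv
    have e : z ^ p ^ (m + 1) = 1 := by rw [← h.oz, pow_orderOf_eq_one]
    rw [Subgroup.mem_subgroupOf, e, Subgroup.zpowers_one_eq_bot, Subgroup.mem_bot] at hv
    exact Subtype.ext hv
  · simp only [W, show ¬ m + 2 ≤ m by omega, show ¬ m + 2 = m + 1 by omega, if_false]
  · intro i hi
    haveI := hnorm i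
    rcases Nat.lt_trichotomy i m with him | rfl | him
    · set g : grpN p x y z := ⟨z ^ p ^ (m + 1 - (i + 1)),
        h.B_le_N (h.Z_le_B (hzle _ (by omega) (Subgroup.mem_zpowers _)))⟩ with hg
      refine relIndex_dvd_prime _ _ g ?_ fun v hv => ?_
      · simp only [W, him.le, if_true, Subgroup.mem_subgroupOf]
        rw [SubgroupClass.coe_pow, hg, ← pow_mul, ← pow_succ,
          show m + 1 - (i + 1) + 1 = m + 1 - i by omega]
        exact Subgroup.mem_zpowers _
      · simp only [W, show i + 1 ≤ m by omega, if_true, Subgroup.mem_subgroupOf] at hv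
        obtain ⟨d, hd⟩ := Subgroup.mem_zpowers_iff.1 hv
        obtain ⟨n, hn⟩ := exists_nat_pow g d
        refine ⟨n, ?_⟩
        have e : v = g ^ d := Subtype.ext (by rw [SubgroupClass.coe_zpow, hg, hd])
        rw [hn, e, inv_mul_cancel]
        exact one_mem _
    · refine relIndex_dvd_prime _ _ Y ?_ fun v hv => ?_
      · rw [show Y ^ p = 1 from Subtype.ext h.yp]
        exact one_mem _
      · simp only [W, show ¬ i + 1 ≤ i by omega, if_true, if_false, Subgroup.mem_subgroupOf] at hv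
        obtain ⟨j, hj⟩ := h.exists_B_nat hv
        refine ⟨j, ?_⟩
        simp only [W, le_refl, if_true, Subgroup.mem_subgroupOf,
          show i + 1 - i = 1 by omega, pow_one]
        exact hj
    · obtain rfl : i = m + 1 := by omega
      refine relIndex_dvd_prime _ _ ⟨x, h.x_mem_N⟩ ?_ fun v _ => ?_
      · simp only [W, show ¬ m + 1 ≤ m by omega, if_true, if_false, Subgroup.mem_subgroupOf]
        exact h.Z_le_B h.xp_mem_Z
      · obtain ⟨k, b, hb, hv⟩ := h.exists_N v.2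
        refine ⟨k, ?_⟩
        simp only [W, show ¬ m + 1 ≤ m by omega, if_true, if_false, Subgroup.mem_subgroupOf]
        show (x ^ k)⁻¹ * (v : Ω) ∈ grpB p y z
        rwa [hv, inv_mul_cancel_left]

/-- An elementary abelian subgroup `⟨x, z^p⟩` moving the centre is not essential. -/
theorem plane_not_essential (h1 : Fam p S x y z 1 s) {F : FusionSystem S} (hS : IsPGroup p S)
    (hF : F.IsSaturated p) (hp5 : 5 ≤ p) {E : Subgroup Ω} (hE : F.IsEssential p E)
    (hxE : x ∈ E) (hxp : x ^ p = 1) (hEA : ∀ v ∈ E, v ∈ grpA y z → v ∈ grpZ p z)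
    (hzE : z ^ p ∈ E) (γ : MulAut E) (hγ : γ ∈ F.autGroup E)
    (hγz : ((γ ⟨z ^ p, hzE⟩ : E) : Ω) = x) : False := by
  have hES := hE.1.1
  have := finite_of_le hES
  set X : E := ⟨x, hxE⟩ with hX
  set Y : E := ⟨z ^ p, hzE⟩ with hY
  have hYp : (z ^ p) ^ p = 1 := by
    rw [← pow_mul, show p * p = p ^ (1 + 1) by ring, ← h1.oz, pow_orderOf_eq_one]
  have hspan : ∀ g : E, ∃ i j : ℕ, g = X ^ i * Y ^ j := fun g => by
    obtain ⟨k, a, ha, hg⟩ := h1.decomp (hES g.2)
    have hak : a ∈ E := by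
      have := mul_mem (inv_mem (pow_mem hxE k)) g.2
      rwa [hg, inv_mul_cancel_left] at this
    obtain ⟨d, hd⟩ := Subgroup.mem_zpowers_iff.1 (hEA a hak ha)
    obtain ⟨n, hn⟩ := exists_nat_pow Y d
    exact ⟨k, n, by rw [hn]; exact Subtype.ext (by rw [hg, ← hd]; rfl)⟩
  have hXY : Commute X Y := Subtype.ext (h1.Z_central h1.zp_mem_Z h1.hx).symm.eq
  have hab : ∀ a b : E, Commute a b := fun a b => by
    obtain ⟨i, j, rfl⟩ := hspan a
    obtain ⟨k, l, rfl⟩ := hspan b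
    exact ((((Commute.refl X).pow_pow i k).mul_right (hXY.pow_pow i l))).mul_left
      ((hXY.symm.pow_pow j k).mul_right ((Commute.refl Y).pow_pow j l))
  have hw : z ^ (s * p ^ 1) = (z ^ p) ^ s := by rw [← pow_mul, pow_one, mul_comm]
  have hyE : y ∈ Subgroup.normalizer (E : Set Ω) := by
    refine mem_normalizer_of_finite fun v hv => ?_
    obtain ⟨i, j, hij⟩ := hspan ⟨v, hv⟩
    have e : v = x ^ i * (z ^ p) ^ j := congrArg Subtype.val hij
    rw [e, ← conj_mul, ← conj_pow, ← conj_pow, h1.conj_y, hw,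
      (h1.yz.pow_right p).eq, mul_inv_cancel_right]
    exact mul_mem (Subgroup.pow_mem _ (mul_mem hxE (Subgroup.pow_mem _ hzE _)) _)
      (Subgroup.pow_mem _ hzE _)
  obtain ⟨t', ht'⟩ := exists_half (p := p) hp5
  obtain ⟨δ, hδ, hδX, hδY⟩ := exists_diag (⊥ : Subgroup E) (F.autGroup E)
    (fun α _ c hc => by rw [Subgroup.mem_bot.1 hc, map_one]; exact one_mem _) X Y
    (fun a b => by rw [(hab a b).eq, inv_mul_cancel]; exact one_mem _)
    (Subgroup.mem_bot.2 (Subtype.ext hxp)) (Subgroup.mem_bot.2 (Subtype.ext hYp))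
    (fun g => by
      obtain ⟨i, j, hij⟩ := hspan g
      exact ⟨i, j, by rw [← hij, inv_mul_cancel]; exact one_mem _⟩)
    (fun i j hij => by
      have hij' : x ^ i * (z ^ p) ^ j = 1 := congrArg Subtype.val (Subgroup.mem_bot.1 hij)
      have hi : p ∣ i := by
        refine h1.pow_mem_A_iff.1 ?_
        rw [eq_inv_of_mul_eq_one_left hij']
        exact inv_mem (Subgroup.pow_mem _ (Subgroup.pow_mem _ h1.z_mem_A _) _)
      refine ⟨hi, ?_⟩
      obtain ⟨c, rfl⟩ := hi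
      rw [pow_mul, hxp, one_pow, one_mul, ← pow_mul] at hij'
      have h2 := orderOf_dvd_of_pow_eq_one hij'
      rw [h1.oz, pow_succ, pow_one] at h2
      exact Nat.dvd_of_mul_dvd_mul_left hp.out.pos h2)
    γ hγ (Subtype.ext hγz) (conjAut hyE) (conjAut_mem_autGroup F hES h1.hy hyE)
    (by
      have e : conjAut hyE Y = Y := Subtype.ext (by
        rw [conjAut_coe, hY, (h1.yz.pow_right p).eq, mul_inv_cancel_right])
      rw [e, inv_mul_cancel]; exact one_mem _)
    s h1.hs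
    (by
      have e : conjAut hyE X = X * Y ^ s := Subtype.ext (by
        rw [conjAut_coe, hX, h1.conj_y, hw]; rfl)
      rw [e, inv_mul_cancel]; exact one_mem _)
    2 t' ht'
  have hδX' : δ X = X ^ 2 := (inv_mul_eq_one.1 (Subgroup.mem_bot.1 hδX)).symm
  have hδY' : δ Y = Y ^ t' := (inv_mul_eq_one.1 (Subgroup.mem_bot.1 hδY)).symm
  -- extend to the normalizer
  have hrec := IsSaturated.receptive hS hF (IsSaturated.fullyCentralized hS hF hE.2.1)
  have hδm := autHom_mem F hES hδ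
  obtain ⟨ψ, hψ, hext⟩ := hrec.2 E (autHom δ) hδm (range_autHom δ)
  set g := y ^ (t' * t') with hg
  let f1 : E →* Ω := (autHom δ).comp (conjAut hyE).toMonoidHom
  let f2 : E →* Ω := (MulAut.conj g).toMonoidHom.comp (autHom δ)
  have hfY : f1 Y = f2 Y := by
    show ((δ (conjAut hyE Y) : E) : Ω) = g * ((δ Y : E) : Ω) * g⁻¹
    rw [show conjAut hyE Y = Y from Subtype.ext (by
      rw [conjAut_coe, hY, (h1.yz.pow_right p).eq, mul_inv_cancel_right]), hδY',
      SubgroupClass.coe_pow, hY]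
    show (z ^ p) ^ t' = g * (z ^ p) ^ t' * g⁻¹
    rw [(((h1.yz.pow_right p).pow_pow (t' * t') t')).eq, mul_inv_cancel_right]
  have hfX : f1 X = f2 X := by
    show ((δ (conjAut hyE X) : E) : Ω) = g * ((δ X : E) : Ω) * g⁻¹
    rw [show conjAut hyE X = X * Y ^ s from Subtype.ext (by
      rw [conjAut_coe, hX, h1.conj_y, hw]; rfl), map_mul, map_pow, hδX', hδY']
    show x ^ 2 * ((z ^ p) ^ t') ^ s = g * x ^ 2 * g⁻¹
    have hc : Commute x ((z ^ p) ^ (s * (t' * t'))) := ((h1.Z_central h1.zp_mem_Z h1.hx).symm).pow_right _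
    rw [← conj_pow, hg, h1.conj_y_pow, hw, ← pow_mul _ s, hc.mul_pow, ← pow_mul _ t', ← pow_mul _ _ 2]
    congr 1
    have e := h1.ext_A (i := 0) (k := 0) (j := ((p * (t' * s) : ℕ) : ℤ))
      (l := ((p * (s * (t' * t') * 2) : ℕ) : ℤ)) rfl (by
        rw [pow_succ, pow_one]
        push_cast
        rw [← mul_sub]
        refine mul_dvd_mul_left _ ((ZMod.intCast_zmod_eq_zero_iff_dvd _ p).1 ?_)
        push_cast at ht' ⊢
        linear_combination (-(t' : ZMod p) * s) * ht')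
    simp only [zpow_zero, one_mul, zpow_natCast, pow_mul z p] at e
    exact e
  have hye : y ∈ extender S E (autHom δ) := by
    refine mem_extender.2 ⟨h1.hy, hyE, g, pow_mem h1.hy _, fun v hv => ?_⟩
    have : f1 v = f2 v := by
      obtain ⟨i, j, rfl⟩ := hspan v
      rw [map_mul, map_mul, map_pow, map_pow, map_pow, map_pow, hfX, hfY]
    exact this
  have hEe := le_extender hES (apply_mem hδm)
  have hle : grpN p x y z ≤ extender S E (autHom δ) := by
    rw [Subgroup.closure_le]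
    rintro c (rfl | rfl | rfl)
    exacts [hEe hxE, hye, hEe hzE]
  set φ := restr hle ψ with hφ
  have hφm : φ ∈ F.Hom (grpN p x y z) := restr_mem F hψ hle
  have hφE : ∀ (v : Ω) (hv : v ∈ grpN p x y z) (hvE : v ∈ E),
      φ ⟨v, hv⟩ = ((δ ⟨v, hvE⟩ : E) : Ω) := fun v hv hvE => hext v hvE _
  -- the normalizer of `E` lies in `⟨x⟩ B`
  have hNE : ∀ g ∈ S, g ∈ Subgroup.normalizer (E : Set Ω) → g ∈ grpN p x y z := by
    intro g hg hgn
    obtain ⟨k, a, ha, rfl⟩ := h1.decomp hg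
    have hxk : x ^ k ∈ Subgroup.normalizer (E : Set Ω) := Subgroup.le_normalizer (pow_mem hxE k)
    have han : a ∈ Subgroup.normalizer (E : Set Ω) :=
      (Subgroup.mul_mem_cancel_left _ hxk).1 hgn
    obtain ⟨i, j, rfl⟩ := h1.exists_A ha
    have h2 := mul_mem (inv_mem hxE) (conj_mem_of_mem_normalizer han hxE)
    rw [show x⁻¹ * (y ^ i * z ^ j * x * (y ^ i * z ^ j)⁻¹) =
      x⁻¹ * (y ^ i * z ^ j) * x * (y ^ i * z ^ j)⁻¹ by group, h1.commutator_x] at h2
    have hj := (h1.dvd_of_mem_Z (hEA _ h2 (h1.mem_A _ _))).1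
    exact mul_mem (Subgroup.pow_mem _ h1.x_mem_N k) (h1.B_le_N (h1.mem_B_of_dvd i hj))
  have hEN : E ≤ grpN p x y z := fun v hv => hNE v (hES hv) (Subgroup.le_normalizer hv)
  have := finite_of_le h1.N_le
  have hr : φ.range = grpN p x y z := by
    refine eq_of_le_of_card ?_ (card_range_eq (F.injective_of_mem hφm)).ge
    rintro _ ⟨⟨v, hv⟩, rfl⟩
    refine hNE _ (apply_mem hφm _) ?_
    exact apply_mem_normalizer (range_autHom δ) (fun c hc hcn => hext c hc hcn) hEe (hle hv)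
      (mem_extender.1 (hle hv)).2.1
  let γ' : MulAut (grpN p x y z) := isoOf φ (F.injective_of_mem hφm) hr
  have hγ' : γ' ∈ F.autGroup (grpN p x y z) := mem_autGroup_of_hom F hφm
  have hyN := h1.B_le_N h1.y_mem_B
  by_cases hyA : φ ⟨y, hyN⟩ ∈ grpA y z
  · have hzN : z ^ p ∈ grpN p x y z := hEN hzE
    obtain ⟨ψ', hψ', hψe⟩ := h1.exists_extension hS hF hφm hr fun v hv hvB => by
      obtain ⟨j, hj⟩ := h1.exists_B_nat hvB
      obtain ⟨d, hd⟩ := Subgroup.mem_zpowers_iff.1 hj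
      have e : (⟨v, hv⟩ : grpN p x y z) = ⟨y, hyN⟩ ^ j * ⟨z ^ p, hzN⟩ ^ d :=
        Subtype.ext (by
          show v = y ^ j * (z ^ p) ^ d
          rw [hd, mul_inv_cancel_left])
      rw [e, map_mul, map_pow, map_zpow]
      refine mul_mem (Subgroup.pow_mem _ (h1.N_inf_A ?_ hyA) _) (Subgroup.zpow_mem _ ?_ _)
      · exact hr.le ⟨_, rfl⟩
      · rw [hφE _ hzN hzE, ← hY, hδY']
        exact Subgroup.pow_mem _ (h1.Z_le_B h1.zp_mem_Z) _
    refine h1.no_endo hψ' (t := 2) (two_sq_ne_one hp5) (one_mem _) ?_ ?_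
    · rw [hψe x h1.x_mem_N, hφE x _ hxE, ← hX, hδX', mul_one]
      rfl
    · rw [hψe y hyN]
      exact hyA
  · exact h1.no_moving hS hF hp5 hγ' hyA

/-- An essential subgroup cannot contain `x`. -/
theorem not_mem_essential {F : FusionSystem S} (hS : IsPGroup p S) (hF : F.IsSaturated p)
    (hp5 : 5 ≤ p) {E : Subgroup Ω} (hE : F.IsEssential p E) (hxE : x ∈ E) : False := by
  have hES := hE.1.1
  have := finite_of_le hES
  have hlt := IsEssential.lt hF hS hE
  have hZE := h.Z_le_essential hE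
  by_cases hyE : y ∈ E
  · have hEN : E = grpN p x y z := by
      refine le_antisymm (fun v hv => ?_) ((Subgroup.closure_le _).2 ?_)
      · obtain ⟨k, a, ha, rfl⟩ := h.decomp (hES hv)
        have haE : a ∈ E := (Subgroup.mul_mem_cancel_left _ (pow_mem hxE k)).1 hv
        exact mul_mem (Subgroup.pow_mem _ h.x_mem_N k)
          (h.B_le_N (h.inf_A_le_B hlt hxE hZE haE ha))
      · rintro c (rfl | rfl | rfl)
        exacts [hxE, hyE, hZE h.zp_mem_Z]
    subst hEN
    exact h.N_not_essential hS hF hp5 hE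
  have hEA : ∀ v ∈ E, v ∈ grpA y z → v ∈ grpZ p z := by
    intro v hv hvA
    obtain ⟨i, j, rfl⟩ := h.exists_B (h.inf_A_le_B hlt hxE hZE hv hvA)
    have hzj : z ^ ((p : ℤ) * j) ∈ grpZ p z := h.mem_Z_of_dvd (dvd_mul_right _ _)
    have hi : (p : ℤ) ∣ i := by
      by_contra hni
      obtain ⟨c, hc⟩ := h.eq_mul_of_not_dvd hni
      refine hyE ?_
      rw [hc]
      exact Subgroup.zpow_mem _ ((Subgroup.mul_mem_cancel_right _ (hZE hzj)).1 hv) _
    obtain ⟨c, rfl⟩ := hi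
    rw [zpow_mul, zpow_natCast, h.yp, one_zpow, one_mul]
    exact hzj
  have hzpE : z ^ p ∈ E := hZE h.zp_mem_Z
  set X : E := ⟨x, hxE⟩ with hX
  set Y : E := ⟨z ^ p, hzpE⟩ with hY
  have hspan : ∀ g : E, ∃ i j : ℕ, g = X ^ i * Y ^ j := fun g => by
    obtain ⟨k, a, ha, hg⟩ := h.decomp (hES g.2)
    have hak : a ∈ E := by
      have := mul_mem (inv_mem (pow_mem hxE k)) g.2
      rwa [hg, inv_mul_cancel_left] at this
    obtain ⟨d, hd⟩ := Subgroup.mem_zpowers_iff.1 (hEA a hak ha)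
    obtain ⟨n, hn⟩ := exists_nat_pow Y d
    exact ⟨k, n, by rw [hn]; exact Subtype.ext (by rw [hg, ← hd]; rfl)⟩
  have hXY : Commute X Y := Subtype.ext (h.Z_central h.zp_mem_Z h.hx).symm.eq
  have hab : IsMulCommutative E := ⟨⟨fun a b => by
    obtain ⟨i, j, rfl⟩ := hspan a
    obtain ⟨k, l, rfl⟩ := hspan b
    exact (((((Commute.refl X).pow_pow i k).mul_right (hXY.pow_pow i l))).mul_left
      ((hXY.symm.pow_pow j k).mul_right ((Commute.refl Y).pow_pow j l))).eq⟩⟩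
  rcases Cfsg.Agent.S5187.result p hS F hF E hE hab
      (frattini_index_le_of_two (hS.to_le hES) X Y hspan) with ⟨hel, hcard⟩ | ⟨h3, -⟩
  swap
  · omega
  have hzp : (z ^ p) ^ p = 1 := hel.2 _ hzpE
  have hm : m = 1 := by
    rw [← pow_mul] at hzp
    have h2 := orderOf_dvd_of_pow_eq_one hzp
    rw [h.oz, ← sq] at h2
    have h2' := (Nat.pow_dvd_pow_iff_le_right hp.out.one_lt).1 h2
    have := h.m1
    omega
  by_cases hmv : ∃ γ ∈ F.autGroup E, ((γ Y : E) : Ω) ∉ grpZ p z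
  · obtain ⟨γ, hγ, hγY⟩ := hmv
    have huA : ((γ Y : E) : Ω) ∉ grpA y z := fun hA => hγY (hEA _ (γ Y).2 hA)
    obtain ⟨y', s', h', hA, -⟩ := h.rebase (hES (γ Y).2) huA
    subst hm
    exact h'.plane_not_essential h' hS hF hp5 hE (γ Y).2
      (hel.2 _ (γ Y).2) (fun v hv hvA => hEA v hv (hA ▸ hvA)) hzpE γ hγ rfl
  push Not at hmv
  let L : Subgroup E := (grpZ p z).subgroupOf E
  have hLn : L.Normal := ⟨fun v hv g => by rw [hab.is_comm.comm g v, mul_inv_cancel_right]; exact hv⟩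
  have hLi : ∀ α ∈ F.autGroup E, ∀ v ∈ L, α v ∈ L := fun α hα v hv => by
    obtain ⟨d, hd⟩ := Subgroup.mem_zpowers_iff.1 (Subgroup.mem_subgroupOf.1 hv)
    have e : v = Y ^ d := Subtype.ext hd.symm
    rw [e, map_zpow]
    exact Subgroup.zpow_mem _ (Subgroup.mem_subgroupOf.2 (hmv α hα)) d
  refine IsEssential.not_series hS hF hE (fun i => match i with | 0 => ⊥ | 1 => L | _ => ⊤) 2
    rfl rfl ?_ ?_
  · intro α hα i v hv
    match i, hv with
    | 0, hv => simp only [Subgroup.mem_bot] at hv ⊢; rw [hv, map_one]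
    | 1, hv => exact hLi α hα v hv
    | i + 2, _ => exact Subgroup.mem_top _
  · intro i hi
    interval_cases i
    · refine relIndex_dvd_prime (⊥ : Subgroup E) L Y (Subgroup.mem_bot.2 (Subtype.ext hzp))
        fun v hv => ?_
      obtain ⟨d, hd⟩ := Subgroup.mem_zpowers_iff.1 (Subgroup.mem_subgroupOf.1 hv)
      obtain ⟨n, hn⟩ := exists_nat_pow Y d
      refine ⟨n, ?_⟩
      have e : v = Y ^ d := Subtype.ext hd.symm
      rw [hn, e, inv_mul_cancel]
      exact one_mem _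
    · refine relIndex_dvd_prime L ⊤ X (Subgroup.mem_subgroupOf.2 h.xp_mem_Z) fun v _ => ?_
      obtain ⟨i, j, rfl⟩ := hspan v
      exact ⟨i, by rw [inv_mul_cancel_left]; exact Subgroup.pow_mem _ h.zp_mem_Z j⟩

/-- There is no essential subgroup. -/
theorem not_essential {F : FusionSystem S} (hS : IsPGroup p S) (hF : F.IsSaturated p)
    (hp5 : 5 ≤ p) {E : Subgroup Ω} (hE : F.IsEssential p E) : False := by
  obtain ⟨u, huE, huA⟩ := SetLike.not_le_iff_exists.1 (h.not_le_A hS hF hp5 hE)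
  obtain ⟨y', s', h', -, -⟩ := h.rebase (hE.1.1 huE) huA
  exact h'.not_mem_essential hS hF hp5 hE huE

end Fam

end Cfsg.Agent.Lib.RankTwoResistant
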