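import Cfsg.Agent.Lib.Fusion.Aut

/-!
The rank two `p`-groups of maximal family type: an abelian subgroup `⟨y, z⟩` of index `p` with
`x⁻¹ z x = y z` and `x⁻¹ y x = y z ^ (s p ^ m)`.
-/

set_option autoImplicit false
set_option linter.unusedSectionVars false

namespace Cfsg.Agent.Lib.RankTwoResistant

open Cfsg Cfsg.FusionSystem Cfsg.Agent.Lib.Fusion

variable {Ω : Type*} [Group Ω]

/-- The data of the third family of groups of rank two. -/
structure Fam (p : ℕ) (S : Subgroup Ω) (x y z : Ω) (m s : ℕ) : Prop where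
  hx : x ∈ S
  hy : y ∈ S
  hz : z ∈ S
  m1 : 1 ≤ m
  hs : ¬ p ∣ s
  gen : Subgroup.closure ({x, y, z} : Set Ω) = S
  hxA : x ∉ Subgroup.closure ({y, z} : Set Ω)
  hxp : x ^ p ∈ Subgroup.closure ({y, z} : Set Ω)
  yp : y ^ p = 1
  oz : orderOf z = p ^ (m + 1)
  hyz : y ∉ Subgroup.zpowers z
  yz : Commute y z
  xy : x⁻¹ * y * x = y * z ^ (s * p ^ m)
  xz : x⁻¹ * z * x = y * z

variable {p : ℕ} [hp : Fact p.Prime] {S : Subgroup Ω} [Finite S] {x y z : Ω} {m s : ℕ}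

/-- The abelian subgroup of index `p`. -/
abbrev grpA (y z : Ω) : Subgroup Ω := Subgroup.closure ({y, z} : Set Ω)

/-- The subgroup generated by `y` and the centre. -/
abbrev grpB (p : ℕ) (y z : Ω) : Subgroup Ω := Subgroup.closure ({y, z ^ p} : Set Ω)

/-- The centre. -/
abbrev grpZ (p : ℕ) (z : Ω) : Subgroup Ω := Subgroup.zpowers (z ^ p)

theorem mem_left (a b : Ω) : a ∈ Subgroup.closure ({a, b} : Set Ω) :=
  Subgroup.subset_closure (Set.mem_insert a {b})

theorem mem_right (a b : Ω) : b ∈ Subgroup.closure ({a, b} : Set Ω) :=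
  Subgroup.subset_closure (Set.mem_insert_of_mem a rfl)

namespace Fam

variable (h : Fam p S x y z m s)
include h

/-- The central element `⁅y, x⁆` of order `p`. -/
theorem w_eq : z ^ (s * p ^ m) = (z ^ p) ^ (s * p ^ (m - 1)) := by
  rw [← pow_mul, mul_left_comm, ← pow_succ', Nat.sub_add_cancel h.m1]

theorem w_mem_Z : z ^ (s * p ^ m) ∈ grpZ p z := by
  rw [h.w_eq]; exact Subgroup.pow_mem _ (Subgroup.mem_zpowers _) _

theorem A_le : grpA y z ≤ S :=
  (Subgroup.closure_le _).2 (by rintro a (rfl | rfl); exacts [h.hy, h.hz])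

theorem y_mem_A : y ∈ grpA y z := Subgroup.subset_closure (Or.inl rfl)

theorem z_mem_A : z ∈ grpA y z := Subgroup.subset_closure (Or.inr rfl)

theorem Z_le_B : grpZ p z ≤ grpB p y z :=
  Subgroup.zpowers_le.2 (Subgroup.subset_closure (Or.inr rfl))

theorem y_mem_B : y ∈ grpB p y z := Subgroup.subset_closure (Or.inl rfl)

theorem B_le_A : grpB p y z ≤ grpA y z :=
  (Subgroup.closure_le _).2 (by
    rintro a (rfl | rfl)
    exacts [h.y_mem_A, Subgroup.pow_mem _ h.z_mem_A _])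

theorem w_mem_A : z ^ (s * p ^ m) ∈ grpA y z := Subgroup.pow_mem _ h.z_mem_A _

theorem exists_A {a : Ω} (ha : a ∈ grpA y z) : ∃ i j : ℤ, a = y ^ i * z ^ j := by
  induction ha using Subgroup.closure_induction with
  | mem a ha =>
    rcases ha with rfl | rfl
    · exact ⟨1, 0, by simp⟩
    · exact ⟨0, 1, by simp⟩
  | one => exact ⟨0, 0, by simp⟩
  | mul a b _ _ ha hb =>
    obtain ⟨i, j, rfl⟩ := ha
    obtain ⟨k, l, rfl⟩ := hb
    refine ⟨i + k, j + l, ?_⟩
    rw [zpow_add, zpow_add, mul_assoc, mul_assoc, ← mul_assoc (z ^ j), ← (h.yz.zpow_zpow k j).eq,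
      mul_assoc]
  | inv a _ ha =>
    obtain ⟨i, j, rfl⟩ := ha
    refine ⟨-i, -j, ?_⟩
    rw [mul_inv_rev, ← zpow_neg, ← zpow_neg, (h.yz.zpow_zpow (-i) (-j)).eq]

theorem mem_A (i j : ℤ) : y ^ i * z ^ j ∈ grpA y z :=
  mul_mem (Subgroup.zpow_mem _ h.y_mem_A _) (Subgroup.zpow_mem _ h.z_mem_A _)

theorem commute_A {a b : Ω} (ha : a ∈ grpA y z) (hb : b ∈ grpA y z) : Commute a b := by
  obtain ⟨i, j, rfl⟩ := h.exists_A ha
  obtain ⟨k, l, rfl⟩ := h.exists_A hb
  have h1 : Commute (y ^ i * z ^ j) (y ^ k) :=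
    ((Commute.refl y).zpow_zpow i k).mul_left (h.yz.symm.zpow_zpow j k)
  have h2 : Commute (y ^ i * z ^ j) (z ^ l) :=
    (h.yz.zpow_zpow i l).mul_left ((Commute.refl z).zpow_zpow j l)
  exact h1.mul_right h2

/-- Uniqueness of the exponents. -/
theorem unique {i j : ℤ} (he : y ^ i * z ^ j = 1) : (p : ℤ) ∣ i ∧ ((p ^ (m + 1) : ℕ) : ℤ) ∣ j := by
  have hi : (p : ℤ) ∣ i := by
    by_contra hni
    have hcop : IsCoprime (p : ℤ) i :=
      (Nat.prime_iff_prime_int.1 hp.out).coprime_iff_not_dvd.2 hni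
    obtain ⟨u, v, huv⟩ := hcop
    refine h.hyz ?_
    have e1 : y ^ i = z ^ (-j) := by rw [zpow_neg]; exact eq_inv_of_mul_eq_one_left he
    have e2 : y = (y ^ (p : ℤ)) ^ u * (y ^ i) ^ v := by
      rw [← zpow_mul, ← zpow_mul, ← zpow_add, mul_comm (p : ℤ) u, mul_comm i v, huv, zpow_one]
    rw [e2, zpow_natCast, h.yp, one_zpow, one_mul, e1]
    exact Subgroup.zpow_mem _ (Subgroup.zpow_mem _ (Subgroup.mem_zpowers _) _) _
  refine ⟨hi, ?_⟩
  obtain ⟨c, rfl⟩ := hi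
  rw [zpow_mul, zpow_natCast, h.yp, one_zpow, one_mul] at he
  rw [← h.oz]
  exact orderOf_dvd_iff_zpow_eq_one.2 he

theorem conj_A (i j : ℤ) :
    x⁻¹ * (y ^ i * z ^ j) * x = y ^ (i + j) * z ^ ((s * p ^ m : ℕ) * i + j) := by
  have e : x⁻¹ * (y ^ i * z ^ j) * x = MulAut.conj x⁻¹ (y ^ i * z ^ j) := by simp
  have e1 : MulAut.conj x⁻¹ y = y * z ^ (s * p ^ m) := by simpa using h.xy
  have e2 : MulAut.conj x⁻¹ z = y * z := by simpa using h.xz
  rw [e, map_mul, map_zpow, map_zpow, e1, e2, h.yz.mul_zpow, (h.yz.pow_right _).mul_zpow,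
    ← zpow_natCast z, ← zpow_mul, zpow_add, zpow_add, mul_assoc, ← mul_assoc (z ^ _) (y ^ j),
    ← (h.yz.zpow_zpow j _).eq, mul_assoc, mul_assoc]

theorem x_mem_normalizer : x ∈ Subgroup.normalizer (grpA y z : Set Ω) := by
  have := finite_of_le h.A_le
  rw [← Subgroup.inv_mem_iff]
  refine mem_normalizer_of_finite fun a ha => ?_
  obtain ⟨i, j, rfl⟩ := h.exists_A ha
  rw [inv_inv, h.conj_A]
  exact h.mem_A _ _

theorem S_le_normalizer : S ≤ Subgroup.normalizer (grpA y z : Set Ω) := by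
  rw [← h.gen, Subgroup.closure_le]
  rintro a (rfl | rfl | rfl)
  exacts [h.x_mem_normalizer, Subgroup.le_normalizer h.y_mem_A, Subgroup.le_normalizer h.z_mem_A]

theorem conj_mem_A {g a : Ω} (hg : g ∈ S) (ha : a ∈ grpA y z) : g * a * g⁻¹ ∈ grpA y z :=
  (Subgroup.mem_normalizer_iff.1 (h.S_le_normalizer hg) a).1 ha

theorem decomp {g : Ω} (hg : g ∈ S) : ∃ k : ℕ, ∃ a ∈ grpA y z, g = x ^ k * a := by
  have hle : Subgroup.zpowers x ≤ Subgroup.normalizer (grpA y z : Set Ω) :=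
    Subgroup.zpowers_le.2 h.x_mem_normalizer
  have hS : S ≤ Subgroup.zpowers x ⊔ grpA y z := by
    rw [← h.gen, Subgroup.closure_le]
    rintro a (rfl | rfl | rfl)
    · exact Subgroup.mem_sup_left (Subgroup.mem_zpowers _)
    · exact Subgroup.mem_sup_right h.y_mem_A
    · exact Subgroup.mem_sup_right h.z_mem_A
  have hg' : g ∈ ((Subgroup.zpowers x ⊔ grpA y z : Subgroup Ω) : Set Ω) := hS hg
  rw [Subgroup.coe_mul_of_left_le_normalizer_right _ _ hle] at hg'
  obtain ⟨u, hu, a, ha, rfl⟩ := hg'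
  have hfin : IsOfFinOrder x := by
    refine orderOf_pos_iff.1 ?_
    have := orderOf_submonoid (⟨x, h.hx⟩ : S)
    rw [show orderOf x = orderOf (⟨x, h.hx⟩ : S) from this]
    exact orderOf_pos _
  obtain ⟨k, rfl⟩ := hfin.mem_powers_iff_mem_zpowers.2 hu
  exact ⟨k, a, ha, rfl⟩

theorem pow_mem_A_iff {k : ℕ} : x ^ k ∈ grpA y z ↔ p ∣ k := by
  refine ⟨fun hk => ?_, fun ⟨c, hc⟩ => by rw [hc, pow_mul]; exact Subgroup.pow_mem _ h.hxp _⟩
  by_contra hn
  obtain ⟨u, v, huv⟩ : IsCoprime (p : ℤ) (k : ℤ) :=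
    (Nat.prime_iff_prime_int.1 hp.out).coprime_iff_not_dvd.2
      (fun hd => hn (Int.natCast_dvd_natCast.1 hd))
  refine h.hxA ?_
  have e : x = (x ^ p) ^ u * (x ^ k) ^ v := by
    rw [← zpow_natCast x p, ← zpow_natCast x k, ← zpow_mul, ← zpow_mul, ← zpow_add,
      mul_comm (p : ℤ) u, mul_comm (k : ℤ) v, huv, zpow_one]
  rw [e]
  exact mul_mem (Subgroup.zpow_mem _ h.hxp _) (Subgroup.zpow_mem _ hk _)

theorem mem_A_iff {k : ℕ} {a : Ω} (ha : a ∈ grpA y z) : x ^ k * a ∈ grpA y z ↔ p ∣ k := by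
  rw [Subgroup.mul_mem_cancel_right _ ha, h.pow_mem_A_iff]

theorem w_pow_eq_one {k : ℕ} (hk : (z ^ (s * p ^ m)) ^ k = 1) : p ∣ k := by
  rw [← pow_mul] at hk
  have h1 := orderOf_dvd_of_pow_eq_one hk
  rw [h.oz, show s * p ^ m * k = p ^ m * (s * k) by ring, pow_succ] at h1
  exact ((Nat.Prime.dvd_mul hp.out).1
    (Nat.dvd_of_mul_dvd_mul_left (pow_pos hp.out.pos m) h1)).resolve_left h.hs

theorem w_pow_p : (z ^ (s * p ^ m)) ^ p = 1 := by
  rw [← pow_mul, ← orderOf_dvd_iff_pow_eq_one, h.oz, pow_succ, mul_assoc]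
  exact Dvd.intro_left _ rfl

theorem x_comm_zp : x⁻¹ * z ^ p * x = z ^ p := by
  have h1 := h.conj_A 0 (p : ℤ)
  simp only [zpow_zero, one_mul, mul_zero, zero_add, zpow_natCast, h.yp] at h1
  exact h1

/-- The centre commutes with everything. -/
theorem Z_central {c g : Ω} (hc : c ∈ grpZ p z) (hg : g ∈ S) : Commute c g := by
  have hx : Commute (z ^ p) x := by
    show z ^ p * x = x * z ^ p
    calc z ^ p * x = x * (x⁻¹ * z ^ p * x) := by group
      _ = x * z ^ p := by rw [h.x_comm_zp]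
  obtain ⟨k, a, ha, rfl⟩ := h.decomp hg
  obtain ⟨i, rfl⟩ := Subgroup.mem_zpowers_iff.1 hc
  exact ((hx.pow_right k).mul_right (h.commute_A (Subgroup.pow_mem _ h.z_mem_A p) ha)).zpow_left i

theorem conj_pow_y (k : ℕ) : (x ^ k)⁻¹ * y * x ^ k = y * (z ^ (s * p ^ m)) ^ k := by
  induction k with
  | zero => simp
  | succ k ih =>
    have hw : Commute (z ^ (s * p ^ m)) x := h.Z_central h.w_mem_Z h.hx
    calc (x ^ (k + 1))⁻¹ * y * x ^ (k + 1) = x⁻¹ * ((x ^ k)⁻¹ * y * x ^ k) * x := by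
          rw [pow_succ]; group
      _ = (x⁻¹ * y * x) * (x⁻¹ * (z ^ (s * p ^ m)) ^ k * x) := by rw [ih]; group
      _ = y * (z ^ (s * p ^ m)) ^ (k + 1) := by
          rw [h.xy, mul_assoc (x⁻¹), (hw.pow_left k).eq, inv_mul_cancel_left, mul_assoc, ← pow_succ']

theorem conj_pow_z (k : ℕ) :
    ∃ e : ℕ, (x ^ k)⁻¹ * z * x ^ k = y ^ k * z * (z ^ (s * p ^ m)) ^ e := by
  induction k with
  | zero => exact ⟨0, by simp⟩
  | succ k ih =>
    obtain ⟨e, he⟩ := ih
    refine ⟨k + e, ?_⟩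
    set w := z ^ (s * p ^ m) with hw'
    have hw : Commute w x := h.Z_central h.w_mem_Z h.hx
    have hwy : Commute y w := h.yz.pow_right _
    have hwz : Commute w z := (Commute.refl z).pow_left _
    calc (x ^ (k + 1))⁻¹ * z * x ^ (k + 1) = x⁻¹ * ((x ^ k)⁻¹ * z * x ^ k) * x := by
          rw [pow_succ]; group
      _ = MulAut.conj x⁻¹ (y ^ k * z * w ^ e) := by rw [he]; simp
      _ = (y * w) ^ k * (y * z) * w ^ e := by
          rw [map_mul, map_mul, map_pow, map_pow]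
          simp only [MulAut.conj_apply, inv_inv]
          rw [hw', h.xy, h.xz, ← hw', mul_assoc x⁻¹ w x, hw.eq, inv_mul_cancel_left]
      _ = y ^ k * (w ^ k * y) * z * w ^ e := by rw [hwy.mul_pow]; simp only [mul_assoc]
      _ = y ^ (k + 1) * (w ^ k * z) * w ^ e := by
          rw [← (hwy.pow_right k).eq, pow_succ]; simp only [mul_assoc]
      _ = y ^ (k + 1) * z * w ^ (k + e) := by
          rw [(hwz.pow_left k).eq]; simp only [pow_add, pow_one, mul_assoc]

theorem mem_A_of_commute_y {g : Ω} (hg : g ∈ S) (hc : Commute g y) : g ∈ grpA y z := by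
  obtain ⟨k, a, ha, rfl⟩ := h.decomp hg
  rw [h.mem_A_iff ha]
  refine h.w_pow_eq_one ?_
  have hak : Commute (x ^ k) y := by
    have := hc.mul_left (h.commute_A ha h.y_mem_A).inv_left
    rwa [mul_inv_cancel_right] at this
  have e := h.conj_pow_y k
  rw [mul_assoc, ← hak.eq, inv_mul_cancel_left] at e
  exact mul_left_cancel ((mul_one y).trans e).symm

theorem mem_Z_of_commute_x {a : Ω} (ha : a ∈ grpA y z) (hc : Commute a x) : a ∈ grpZ p z := by
  obtain ⟨i, j, rfl⟩ := h.exists_A ha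
  have e := h.conj_A i j
  rw [mul_assoc, hc.eq, inv_mul_cancel_left] at e
  have e1 : y ^ j * z ^ (((s * p ^ m : ℕ) : ℤ) * i) = 1 := by
    have e2 : y ^ i * z ^ j = y ^ i * z ^ j * (y ^ j * z ^ (((s * p ^ m : ℕ) : ℤ) * i)) := by
      rw [mul_assoc, ← mul_assoc (z ^ j), ← (h.yz.zpow_zpow j j).eq, mul_assoc (y ^ j), ← zpow_add,
        ← mul_assoc (y ^ i), ← zpow_add]
      rw [add_comm j (((s * p ^ m : ℕ) : ℤ) * i)]
      exact e
    exact mul_eq_left.1 e2.symm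
  obtain ⟨hj, hi⟩ := h.unique e1
  have hpi : (p : ℤ) ∣ i := by
    have h1 : ((p ^ m : ℕ) : ℤ) * p ∣ ((p ^ m : ℕ) : ℤ) * ((s : ℤ) * i) := by
      push_cast at hi ⊢
      rwa [← pow_succ, ← mul_assoc, mul_comm ((p : ℤ) ^ m) (s : ℤ)]
    have h2 := (mul_dvd_mul_iff_left (Int.natCast_ne_zero.2 (pow_ne_zero m hp.out.ne_zero))).1 h1
    exact ((Nat.prime_iff_prime_int.1 hp.out).dvd_or_dvd h2).resolve_left
      fun hd => h.hs (Int.natCast_dvd_natCast.1 hd)
  obtain ⟨c, rfl⟩ := hpi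
  obtain ⟨d, rfl⟩ := hj
  rw [zpow_mul, zpow_natCast, h.yp, one_zpow, one_mul, zpow_mul, zpow_natCast]
  exact Subgroup.zpow_mem _ (Subgroup.mem_zpowers _) _

/-- The elements of `A` killed by `p`. -/
theorem omega_A {a : Ω} (ha : a ∈ grpA y z) (hap : a ^ p = 1) :
    a ∈ Subgroup.closure ({y, z ^ (s * p ^ m)} : Set Ω) := by
  obtain ⟨i, j, rfl⟩ := h.exists_A ha
  rw [← zpow_natCast, (h.yz.zpow_zpow i j).mul_zpow, ← zpow_mul, ← zpow_mul, mul_comm i,
    zpow_mul, zpow_natCast y, h.yp, one_zpow, one_mul] at hap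
  have hd := orderOf_dvd_iff_zpow_eq_one.2 hap
  rw [h.oz, pow_succ] at hd
  push_cast at hd
  obtain ⟨c, rfl⟩ := Int.dvd_of_mul_dvd_mul_right (Int.natCast_ne_zero.2 hp.out.ne_zero) hd
  obtain ⟨u, v, huv⟩ : IsCoprime (p : ℤ) (s : ℤ) :=
    (Nat.prime_iff_prime_int.1 hp.out).coprime_iff_not_dvd.2
      (fun hd' => h.hs (Int.natCast_dvd_natCast.1 hd'))
  refine mul_mem (Subgroup.zpow_mem _ (mem_left _ _) _) ?_
  have e : z ^ ((p : ℤ) ^ m * c) = (z ^ (s * p ^ m)) ^ (v * c) := by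
    have hz1 : z ^ ((p : ℤ) ^ m * p) = 1 := by
      rw [← pow_succ, ← Nat.cast_pow, zpow_natCast, ← h.oz, pow_orderOf_eq_one]
    rw [← zpow_natCast z (s * p ^ m), ← zpow_mul]
    have e3 : (p : ℤ) ^ m * c = (p : ℤ) ^ m * p * (u * c) + ((s * p ^ m : ℕ) : ℤ) * (v * c) := by
      push_cast
      linear_combination (-(p : ℤ) ^ m * c) * huv
    rw [e3, zpow_add, zpow_mul, hz1, one_zpow, one_mul]
  rw [e]
  exact Subgroup.zpow_mem _ (mem_right _ _) _

theorem omega_le_B : Subgroup.closure ({y, z ^ (s * p ^ m)} : Set Ω) ≤ grpB p y z :=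
  (Subgroup.closure_le _).2 (by
    rintro a (rfl | rfl)
    exacts [h.y_mem_B, h.Z_le_B h.w_mem_Z])

theorem omega_pow {a : Ω} (ha : a ∈ Subgroup.closure ({y, z ^ (s * p ^ m)} : Set Ω)) : a ^ p = 1 := by
  induction ha using Subgroup.closure_induction with
  | mem a ha => rcases ha with rfl | rfl; exacts [h.yp, h.w_pow_p]
  | one => simp
  | mul a b ha hb ha' hb' =>
    rw [(h.commute_A (h.B_le_A (h.omega_le_B ha)) (h.B_le_A (h.omega_le_B hb))).mul_pow, ha', hb',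
      one_mul]
  | inv a _ ha => rw [inv_pow, ha, inv_one]

/-- Replacing `x` by another element outside `A`. -/
theorem rebase {u : Ω} (hu : u ∈ S) (huA : u ∉ grpA y z) :
    ∃ y' s', Fam p S u y' z m s' ∧ grpA y' z = grpA y z ∧ grpB p y' z = grpB p y z := by
  obtain ⟨k, a, ha, rfl⟩ := h.decomp hu
  have hk : ¬ p ∣ k := fun hd => huA ((h.mem_A_iff ha).2 hd)
  set w := z ^ (s * p ^ m) with hw
  obtain ⟨e, he⟩ := h.conj_pow_z k
  have hca : ∀ b ∈ grpA y z,
      (x ^ k * a)⁻¹ * b * (x ^ k * a) = (x ^ k)⁻¹ * b * x ^ k := fun b hb => by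
    have hb' : (x ^ k)⁻¹ * b * x ^ k ∈ grpA y z := by
      have := h.conj_mem_A (inv_mem (pow_mem h.hx k)) hb
      rwa [inv_inv] at this
    calc (x ^ k * a)⁻¹ * b * (x ^ k * a) = a⁻¹ * ((x ^ k)⁻¹ * b * x ^ k) * a := by group
      _ = (x ^ k)⁻¹ * b * x ^ k := by
        rw [mul_assoc, (h.commute_A hb' ha).eq, inv_mul_cancel_left]
  have hwA : w ∈ grpA y z := h.w_mem_A
  have hyw : Commute y w := h.yz.pow_right _
  have hy'A : y ^ k * w ^ e ∈ grpA y z :=
    mul_mem (Subgroup.pow_mem _ h.y_mem_A _) (Subgroup.pow_mem _ hwA _)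
  obtain ⟨u, v, huv⟩ : IsCoprime (p : ℤ) (k : ℤ) :=
    (Nat.prime_iff_prime_int.1 hp.out).coprime_iff_not_dvd.2
      (fun hd => hk (Int.natCast_dvd_natCast.1 hd))
  have hcl : ∀ q : Ω, w ∈ Subgroup.zpowers q →
      Subgroup.closure ({y ^ k * w ^ e, q} : Set Ω) = Subgroup.closure ({y, q} : Set Ω) := by
    intro q hq
    refine le_antisymm ((Subgroup.closure_le _).2 ?_) ((Subgroup.closure_le _).2 ?_)
    · rintro b (rfl | rfl)
      · exact mul_mem (Subgroup.pow_mem _ (mem_left _ _) _)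
          (Subgroup.pow_mem _ (Subgroup.zpowers_le.2 (mem_right _ _) hq) _)
      · exact mem_right _ _
    · have hwq : w ∈ Subgroup.closure ({y ^ k * w ^ e, q} : Set Ω) :=
        Subgroup.zpowers_le.2 (mem_right _ _) hq
      have hyk : y ^ k ∈ Subgroup.closure ({y ^ k * w ^ e, q} : Set Ω) :=
        (Subgroup.mul_mem_cancel_right _ (Subgroup.pow_mem _ hwq e)).1 (mem_left _ _)
      rintro b (rfl | rfl)
      · have e1 : b = (b ^ p) ^ u * (b ^ k) ^ v := by
          rw [← zpow_natCast b p, ← zpow_natCast b k, ← zpow_mul, ← zpow_mul, ← zpow_add,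
            mul_comm (p : ℤ) u, mul_comm (k : ℤ) v, huv, zpow_one]
        refine (congrArg (fun r => r ∈ Subgroup.closure ({b ^ k * w ^ e, q} : Set Ω)) e1).mpr ?_
        rw [h.yp, one_zpow, one_mul]
        exact Subgroup.zpow_mem _ hyk _
      · exact mem_right _ _
  have hA : grpA (y ^ k * w ^ e) z = grpA y z :=
    hcl z (Subgroup.pow_mem _ (Subgroup.mem_zpowers _) _)
  have hB : grpB p (y ^ k * w ^ e) z = grpB p y z := hcl (z ^ p) h.w_mem_Z
  refine ⟨y ^ k * w ^ e, s * k * k, ⟨hu, h.A_le hy'A, h.hz, h.m1, ?_, ?_, ?_, ?_, ?_, h.oz, ?_, ?_,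
    ?_, ?_⟩, hA, hB⟩
  · intro hd
    rcases (Nat.Prime.dvd_mul hp.out).1 hd with hd | hd
    · rcases (Nat.Prime.dvd_mul hp.out).1 hd with hd | hd
      exacts [h.hs hd, hk hd]
    · exact hk hd
  · refine le_antisymm ((Subgroup.closure_le _).2 ?_) ?_
    · rintro b (rfl | rfl | rfl); exacts [hu, h.A_le hy'A, h.hz]
    · rw [← h.gen, Subgroup.closure_le]
      have hA' : grpA y z ≤ Subgroup.closure ({x ^ k * a, y ^ k * w ^ e, z} : Set Ω) := by
        rw [← hA]; exact Subgroup.closure_mono (fun b hb => Or.inr hb)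
      have hxk : x ^ k ∈ Subgroup.closure ({x ^ k * a, y ^ k * w ^ e, z} : Set Ω) :=
        (Subgroup.mul_mem_cancel_right _ (hA' ha)).1 (Subgroup.subset_closure (Or.inl rfl))
      rintro b (rfl | rfl | rfl)
      · have e1 : b = (b ^ p) ^ u * (b ^ k) ^ v := by
          rw [← zpow_natCast b p, ← zpow_natCast b k, ← zpow_mul, ← zpow_mul, ← zpow_add,
            mul_comm (p : ℤ) u, mul_comm (k : ℤ) v, huv, zpow_one]
        exact (congrArg (fun r => r ∈ Subgroup.closure ({b ^ k * a, y ^ k * w ^ e, z} : Set Ω)) e1).mpr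
          (mul_mem (Subgroup.zpow_mem _ (hA' h.hxp) _) (Subgroup.zpow_mem _ hxk _))
      · exact hA' h.y_mem_A
      · exact hA' h.z_mem_A
  · intro hmem
    rw [show Subgroup.closure ({y ^ k * w ^ e, z} : Set Ω) = grpA y z from hA] at hmem
    exact huA hmem
  · rw [show Subgroup.closure ({y ^ k * w ^ e, z} : Set Ω) = grpA y z from hA]
    -- the `p`-th power lies in `A`
    have key : ∀ r : ℕ, ∃ a' ∈ grpA y z, (x ^ k * a) ^ r = x ^ (k * r) * a' := by
      intro r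
      induction r with
      | zero => exact ⟨1, one_mem _, by simp⟩
      | succ r ih =>
        obtain ⟨a', ha', he'⟩ := ih
        have hc' : (x ^ k)⁻¹ * a' * x ^ k ∈ grpA y z := by
          have := h.conj_mem_A (inv_mem (pow_mem h.hx k)) ha'
          rwa [inv_inv] at this
        refine ⟨(x ^ k)⁻¹ * a' * x ^ k * a, mul_mem hc' ha, ?_⟩
        rw [pow_succ, he', show k * (r + 1) = k * r + k by ring, pow_add]
        group
    obtain ⟨a', ha', he'⟩ := key p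
    rw [he', h.mem_A_iff ha']
    exact dvd_mul_left p k
  · rw [(((hyw.pow_left k).pow_right e)).mul_pow, ← pow_mul, ← pow_mul, mul_comm k, mul_comm e,
      pow_mul, pow_mul, h.yp, h.w_pow_p, one_pow, one_pow, one_mul]
  · intro hmem
    refine h.hyz ?_
    have hwz : w ∈ Subgroup.zpowers z := Subgroup.pow_mem _ (Subgroup.mem_zpowers _) _
    have hyk : y ^ k ∈ Subgroup.zpowers z :=
      (Subgroup.mul_mem_cancel_right _ (Subgroup.pow_mem _ hwz e)).1 hmem
    have e1 : y = (y ^ p) ^ u * (y ^ k) ^ v := by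
      rw [← zpow_natCast y p, ← zpow_natCast y k, ← zpow_mul, ← zpow_mul, ← zpow_add,
        mul_comm (p : ℤ) u, mul_comm (k : ℤ) v, huv, zpow_one]
    rw [e1, h.yp, one_zpow, one_mul]
    exact Subgroup.zpow_mem _ hyk _
  · exact h.commute_A hy'A h.z_mem_A
  · rw [hca _ hy'A]
    have hwx : Commute w (x ^ k) := h.Z_central h.w_mem_Z (pow_mem h.hx k)
    calc (x ^ k)⁻¹ * (y ^ k * w ^ e) * x ^ k
        = ((x ^ k)⁻¹ * y * x ^ k) ^ k * w ^ e := by
          rw [show (x ^ k)⁻¹ * y * x ^ k = (x ^ k)⁻¹ * y * (x ^ k)⁻¹⁻¹ by rw [inv_inv], conj_pow,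
            inv_inv]
          rw [mul_assoc ((x ^ k)⁻¹ * y ^ k) (x ^ k), ← (hwx.pow_left e).eq]
          group
      _ = y ^ k * w ^ (k * k) * w ^ e := by
          rw [h.conj_pow_y k, (hyw.pow_right k).mul_pow, pow_mul]
      _ = y ^ k * w ^ e * z ^ (s * k * k * p ^ m) := by
          rw [mul_assoc, ← pow_add, add_comm, pow_add, ← mul_assoc, hw, ← pow_mul z _ (k * k)]
          congr 2
          ring
  · rw [hca _ h.z_mem_A, he]
    have hwz : Commute z w := (Commute.refl z).pow_right _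
    rw [mul_assoc, (hwz.pow_right e).eq, ← mul_assoc]

end Fam

end Cfsg.Agent.Lib.RankTwoResistant
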