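import Cfsg.Agent.S5185

/-!
Automorphisms acting on a plane section with a transvection fixing a line that is moved induce
every diagonal matrix of determinant one.
-/

set_option autoImplicit false
set_option linter.unusedSectionVars false

namespace Cfsg.Agent.Lib.RankTwoResistant

open scoped Matrix
open Cfsg.Agent.S5185 (upU loU coe_upU coe_loU eq_top_of_unipotent)

variable {p : ℕ} [hp : Fact p.Prime] {G : Type*} [Group G] [Finite G] (Z : Subgroup G) [Z.Normal]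

theorem exists_diag (H : Subgroup (MulAut G)) (hZ : ∀ α ∈ H, ∀ c ∈ Z, α c ∈ Z) (X Y : G)
    (hcomm : ∀ a b : G, (a * b)⁻¹ * (b * a) ∈ Z) (hX : X ^ p ∈ Z) (hY : Y ^ p ∈ Z)
    (hspan : ∀ g : G, ∃ i j : ℕ, (X ^ i * Y ^ j)⁻¹ * g ∈ Z)
    (hind : ∀ i j : ℕ, X ^ i * Y ^ j ∈ Z → p ∣ i ∧ p ∣ j)
    (γ : MulAut G) (hγ : γ ∈ H) (hγY : γ Y = X)
    (c : MulAut G) (hc : c ∈ H) (hcY : Y⁻¹ * c Y ∈ Z) (a : ℕ) (ha : ¬ p ∣ a)
    (hcX : (X * Y ^ a)⁻¹ * c X ∈ Z) (t t' : ℕ) (htt : (t : ZMod p) * (t' : ZMod p) = 1) :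
    ∃ δ ∈ H, (X ^ t)⁻¹ * δ X ∈ Z ∧ (Y ^ t')⁻¹ * δ Y ∈ Z := by
  classical
  letI : CommGroup (G ⧸ Z) := { (inferInstance : Group (G ⧸ Z)) with
    mul_comm := fun u v => by
      induction u using QuotientGroup.induction_on with
      | H u =>
        induction v using QuotientGroup.induction_on with
        | H v => exact QuotientGroup.eq.2 (hcomm u v) }
  set X' : G ⧸ Z := (X : G ⧸ Z) with hX'
  set Y' : G ⧸ Z := (Y : G ⧸ Z) with hY'
  have hXp : X' ^ p = 1 := by rw [hX', ← QuotientGroup.mk_pow, QuotientGroup.eq_one_iff]; exact hX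
  have hYp : Y' ^ p = 1 := by rw [hY', ← QuotientGroup.mk_pow, QuotientGroup.eq_one_iff]; exact hY
  have hmod : ∀ (u : G ⧸ Z), u ^ p = 1 → ∀ n : ℕ, u ^ (n % p) = u ^ n := fun u hu n => by
    conv_rhs => rw [← Nat.mod_add_div n p, pow_add, pow_mul, hu, one_pow, mul_one]
  have hred : ∀ (u : G ⧸ Z), u ^ p = 1 → ∀ n : ℕ, u ^ (n : ZMod p).val = u ^ n := fun u hu n => by
    rw [ZMod.val_natCast, hmod u hu]
  let v : (Fin 2 → ZMod p) → G ⧸ Z := fun e => X' ^ (e 0).val * Y' ^ (e 1).val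
  have hv : ∀ e f, v (e + f) = v e * v f := fun e f => by
    show X' ^ ((e + f) 0).val * Y' ^ ((e + f) 1).val = _
    rw [Pi.add_apply, Pi.add_apply, ZMod.val_add, ZMod.val_add, hmod _ hXp, hmod _ hYp,
      pow_add, pow_add, mul_mul_mul_comm]
  have hvn : ∀ i j : ℕ, v ![(i : ZMod p), (j : ZMod p)] = X' ^ i * Y' ^ j := fun i j => by
    show X' ^ (i : ZMod p).val * Y' ^ (j : ZMod p).val = _
    rw [hred _ hXp, hred _ hYp]
  have hvinj : Function.Injective v := by
    intro e f hef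
    have h1 : v (e - f) = 1 := by
      have h2 := hv (e - f) f
      rw [sub_add_cancel, hef] at h2
      exact mul_eq_right.1 h2.symm
    change X' ^ ((e - f) 0).val * Y' ^ ((e - f) 1).val = 1 at h1
    rw [hX', hY', ← QuotientGroup.mk_pow, ← QuotientGroup.mk_pow, ← QuotientGroup.mk_mul,
      QuotientGroup.eq_one_iff] at h1
    obtain ⟨h0, h1⟩ := hind _ _ h1
    have hz : ∀ r : ZMod p, p ∣ r.val → r = 0 := fun r hr =>
      (ZMod.val_eq_zero r).1 (Nat.eq_zero_of_dvd_of_lt hr r.val_lt)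
    funext i
    fin_cases i
    · exact sub_eq_zero.1 (hz _ h0)
    · exact sub_eq_zero.1 (hz _ h1)
  let bar : H → (G ⧸ Z →* G ⧸ Z) := fun α =>
    QuotientGroup.map Z Z α.1.toMonoidHom fun z hz => hZ α.1 α.2 z hz
  have hbar : ∀ (α : H) (g : G), bar α (g : G ⧸ Z) = ((α.1 g : G) : G ⧸ Z) := fun _ _ => rfl
  have hbar1 : ∀ u, bar 1 u = u := fun u => by
    induction u using QuotientGroup.induction_on with
    | H g => exact hbar 1 g
  have hbarm : ∀ (α β : H) u, bar (α * β) u = bar α (bar β u) := fun α β u => by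
    induction u using QuotientGroup.induction_on with
    | H g => rw [hbar, hbar, hbar]; rfl
  have hsmul : ∀ (n : ℕ) (f : Fin 2 → ZMod p), v f ^ n = v ((n : ZMod p) • f) := by
    intro n f
    induction n with
    | zero =>
      rw [pow_zero, Nat.cast_zero, zero_smul]
      show (1 : G ⧸ Z) = X' ^ ((0 : Fin 2 → ZMod p) 0).val * Y' ^ ((0 : Fin 2 → ZMod p) 1).val
      simp
    | succ n ih => rw [pow_succ, ih, Nat.cast_succ, add_smul, one_smul, hv]
  let Act : H → Matrix (Fin 2) (Fin 2) (ZMod p) → Prop := fun α M =>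
    ∀ e, bar α (v e) = v (M *ᵥ e)
  have hAct : ∀ (α : H) (M : Matrix (Fin 2) (Fin 2) (ZMod p)) (f f' : Fin 2 → ZMod p),
      bar α X' = v f → bar α Y' = v f' → (∀ i, M i 0 = f i) → (∀ i, M i 1 = f' i) → Act α M := by
    intro α M f f' h0 h1 hM0 hM1 e
    show bar α (X' ^ (e 0).val * Y' ^ (e 1).val) = _
    rw [map_mul, map_pow, map_pow, h0, h1]
    refine (congrArg₂ (· * ·) (hsmul _ _) (hsmul _ _)).trans ?_
    rw [← hv, ZMod.natCast_zmod_val, ZMod.natCast_zmod_val]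
    congr 1
    funext i
    simp [Matrix.mulVec, dotProduct, Fin.sum_univ_two, hM0, hM1]
    ring
  let H' : Subgroup (Matrix.SpecialLinearGroup (Fin 2) (ZMod p)) :=
    { carrier := {M | ∃ α, Act α M.1}
      one_mem' := ⟨1, fun e => by
        rw [hbar1, Matrix.SpecialLinearGroup.coe_one, Matrix.one_mulVec]⟩
      mul_mem' := by
        rintro M M' ⟨α, hM⟩ ⟨β, hM'⟩
        exact ⟨α * β, fun e => by
          rw [hbarm, hM', hM, Matrix.SpecialLinearGroup.coe_mul, Matrix.mulVec_mulVec]⟩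
      inv_mem' := by
        rintro M ⟨α, hM⟩
        have key : ∀ n : ℕ, ∃ β, Act β (M ^ n).1 := by
          intro n
          induction n with
          | zero => exact ⟨1, fun e => by
              rw [hbar1, pow_zero, Matrix.SpecialLinearGroup.coe_one, Matrix.one_mulVec]⟩
          | succ n ih =>
            obtain ⟨β, hβM⟩ := ih
            exact ⟨β * α, fun e => by
              rw [hbarm, hM, hβM, pow_succ, Matrix.SpecialLinearGroup.coe_mul,
                Matrix.mulVec_mulVec]⟩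
        obtain ⟨n, hn⟩ : M⁻¹ ∈ Submonoid.powers M :=
          mem_powers_iff_mem_zpowers.2 (inv_mem (Subgroup.mem_zpowers M))
        show ∃ α, Act α (M⁻¹).1
        rw [← show M ^ n = M⁻¹ from hn]
        exact key n }
  -- the given transvection
  have hmk : ∀ {g g' : G}, g⁻¹ * g' ∈ Z → (g : G ⧸ Z) = g' := fun hgg => QuotientGroup.eq.2 hgg
  set cH : H := ⟨c, hc⟩ with hcH
  set γH : H := ⟨γ, hγ⟩ with hγH
  have hcY' : bar cH Y' = Y' := (hmk hcY).symm
  have hcX' : bar cH X' = X' * Y' ^ a := (hmk hcX).symm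
  have ha' : (a : ZMod p) ≠ 0 := fun h0 => ha ((ZMod.natCast_eq_zero_iff a p).1 h0)
  have hlo : loU (a : ZMod p) ∈ H' :=
    ⟨cH, hAct cH _ ![((1 : ℕ) : ZMod p), (a : ZMod p)] ![((0 : ℕ) : ZMod p), ((1 : ℕ) : ZMod p)]
      (by rw [hcX', hvn, pow_one]) (by rw [hcY', hvn, pow_zero, one_mul, pow_one])
      (fun i => by fin_cases i <;> simp [coe_loU]) (fun i => by fin_cases i <;> simp [coe_loU])⟩
  -- its conjugate
  set β : H := γH * cH * γH⁻¹ with hβ
  have hγY' : bar γH Y' = X' := by rw [hY', hbar, hX']; exact congrArg _ hγY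
  have hβγ : ∀ u, bar β (bar γH u) = bar γH (bar cH u) := by
    intro u
    rw [← hbarm, ← hbarm, hβ, inv_mul_cancel_right]
  have hβX : bar β X' = X' := by
    have h1 := hβγ Y'
    rw [hγY', hcY', hγY'] at h1
    exact h1
  obtain ⟨i₁, j₁, hγX⟩ := hspan (γ X)
  have hγX' : bar γH X' = X' ^ i₁ * Y' ^ j₁ := by
    rw [hX', hbar]
    exact (hmk hγX).symm
  obtain ⟨r, g, hβY⟩ := hspan (β.1 Y)
  have hβY' : bar β Y' = X' ^ r * Y' ^ g := by
    rw [hY', hbar]
    exact (hmk hβY).symm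
  have hj : (j₁ : ZMod p) ≠ 0 := by
    intro h0
    obtain ⟨q, hq⟩ := (ZMod.natCast_eq_zero_iff j₁ p).1 h0
    have h1 : bar γH X' = bar γH (Y' ^ i₁) := by
      rw [hγX', map_pow, hγY', hq, pow_mul, hYp, one_pow, mul_one]
    have h5 := congrArg (bar γH⁻¹) h1
    rw [← hbarm, ← hbarm, inv_mul_cancel, hbar1, hbar1] at h5
    have h6 : v ![((1 : ℕ) : ZMod p), ((0 : ℕ) : ZMod p)] = v ![((0 : ℕ) : ZMod p), (i₁ : ZMod p)] := by
      rw [hvn, hvn, pow_one, pow_zero, pow_zero, mul_one, one_mul, h5]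
    exact one_ne_zero (α := ZMod p) (by simpa using congrFun (hvinj h6) 0)
  have hrel : (j₁ : ZMod p) * (r : ZMod p) = a ∧ (g : ZMod p) = 1 := by
    have h1 := hβγ X'
    rw [hγX', map_mul, map_pow, map_pow, hβX, hβY', hcX', map_mul, map_pow, hγX', hγY'] at h1
    have h2 : X' ^ (i₁ + r * j₁) * Y' ^ (g * j₁) = X' ^ (i₁ + a) * Y' ^ j₁ := by
      rw [mul_pow, ← pow_mul, ← pow_mul, ← mul_assoc, ← pow_add] at h1
      rw [h1, pow_add, mul_right_comm]
    rw [← hvn, ← hvn] at h2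
    have h3 := hvinj h2
    have e0 := congrFun h3 0
    have e1 := congrFun h3 1
    simp only [Matrix.cons_val_zero, Matrix.cons_val_one, Nat.cast_add, Nat.cast_mul] at e0 e1
    constructor
    · linear_combination e0
    · exact mul_left_cancel₀ hj (by linear_combination e1)
  have hr' : (r : ZMod p) ≠ 0 := fun h0 => ha' (by rw [← hrel.1, h0, mul_zero])
  have hup : upU (r : ZMod p) ∈ H' :=
    ⟨β, hAct β _ ![((1 : ℕ) : ZMod p), ((0 : ℕ) : ZMod p)] ![(r : ZMod p), (g : ZMod p)]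
      (by rw [hβX, hvn, pow_zero, mul_one, pow_one]) (by rw [hβY', hvn])
      (fun i => by fin_cases i <;> simp [coe_upU])
      (fun i => by fin_cases i <;> simp [coe_upU, hrel.2])⟩
  have htop := eq_top_of_unipotent H' hr' ha' hup hlo
  let D : Matrix.SpecialLinearGroup (Fin 2) (ZMod p) :=
    ⟨!![(t : ZMod p), 0; 0, (t' : ZMod p)], by simp [Matrix.det_fin_two, htt]⟩
  obtain ⟨δ, hD⟩ : D ∈ H' := by rw [htop]; exact Subgroup.mem_top D
  refine ⟨δ.1, δ.2, ?_, ?_⟩
  · have h1 := hD ![((1 : ℕ) : ZMod p), ((0 : ℕ) : ZMod p)]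
    rw [show D.1 *ᵥ ![((1 : ℕ) : ZMod p), ((0 : ℕ) : ZMod p)] = ![(t : ZMod p), ((0 : ℕ) : ZMod p)] by
        funext i; fin_cases i <;> simp [D], hvn, hvn, pow_one, pow_zero, mul_one, mul_one,
      hX', hbar, ← QuotientGroup.mk_pow] at h1
    exact QuotientGroup.eq.1 h1.symm
  · have h1 := hD ![((0 : ℕ) : ZMod p), ((1 : ℕ) : ZMod p)]
    rw [show D.1 *ᵥ ![((0 : ℕ) : ZMod p), ((1 : ℕ) : ZMod p)] = ![((0 : ℕ) : ZMod p), (t' : ZMod p)] by
        funext i; fin_cases i <;> simp [D], hvn, hvn, pow_zero, one_mul, pow_one, one_mul,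
      hY', hbar, ← QuotientGroup.mk_pow] at h1
    exact QuotientGroup.eq.1 h1.symm

end Cfsg.Agent.Lib.RankTwoResistant
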