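import Cfsg.Agent.Lib.RankTwoResistant.Endo
import Cfsg.Agent.Lib.RankTwoResistant.Plane
import Cfsg.Agent.Lib.Fusion.EssentialSeries
import Cfsg.Agent.Lib.Cores.Frattini
import Cfsg.Agent.S5187

/-!
A saturated system over a group of the third family has no essential subgroup.
-/

set_option autoImplicit false
set_option linter.unusedSectionVars false

namespace Cfsg.Agent.Lib.RankTwoResistant

open Cfsg Cfsg.FusionSystem Cfsg.Agent.Lib.Fusion

universe u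

variable {p : ℕ} [hp : Fact p.Prime]

theorem frattini_index_le_of_two {G : Type*} [Group G] [Finite G] (hG : IsPGroup p G) (a b : G)
    (hgen : ∀ v : G, ∃ i j : ℕ, v = a ^ i * b ^ j) : (frattini G).index ≤ p ^ 2 := by
  have hq : ∀ (c : G) (i : ℕ), ((c ^ i : G) : G ⧸ frattini G) = ((c ^ (i % p) : G) : G ⧸ frattini G) := by
    intro c i
    have h1 : ((c : G) : G ⧸ frattini G) ^ p = 1 := by
      rw [← QuotientGroup.mk_pow, QuotientGroup.eq_one_iff]; exact Cores.pow_mem_frattini hG c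
    rw [QuotientGroup.mk_pow, QuotientGroup.mk_pow]
    conv_lhs => rw [← Nat.mod_add_div i p, pow_add, pow_mul, h1, one_pow, mul_one]
  let f : Fin p × Fin p → G ⧸ frattini G := fun v => ((a ^ v.1.1 * b ^ v.2.1 : G) : G ⧸ frattini G)
  have hf : Function.Surjective f := fun q => by
    obtain ⟨v, rfl⟩ := QuotientGroup.mk_surjective q
    obtain ⟨i, j, rfl⟩ := hgen v
    refine ⟨(⟨i % p, Nat.mod_lt _ hp.out.pos⟩, ⟨j % p, Nat.mod_lt _ hp.out.pos⟩), ?_⟩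
    show ((a ^ (i % p) * b ^ (j % p) : G) : G ⧸ frattini G) = _
    rw [QuotientGroup.mk_mul, QuotientGroup.mk_mul, ← hq, ← hq]
  have := Nat.card_le_card_of_surjective f hf
  rwa [Nat.card_prod, Nat.card_fin, ← sq] at this

theorem relIndex_dvd_prime {G : Type*} [Group G] [Finite G] (H K : Subgroup G) [H.Normal] (g : G)
    (hgp : g ^ p ∈ H) (hK : ∀ v ∈ K, ∃ i : ℕ, (g ^ i)⁻¹ * v ∈ H) : H.relIndex K ∣ p := by
  have h1 : H.relIndex K = Nat.card ((QuotientGroup.mk' H).comp K.subtype).range := by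
    rw [← Subgroup.index_ker, ← MonoidHom.comap_ker, QuotientGroup.ker_mk']
    rfl
  rw [h1]
  refine (Subgroup.card_dvd_of_le (K := Subgroup.zpowers ((g : G) : G ⧸ H)) ?_).trans ?_
  · rintro _ ⟨⟨v, hv⟩, rfl⟩
    obtain ⟨i, hi⟩ := hK v hv
    refine ⟨i, ?_⟩
    show ((g : G) : G ⧸ H) ^ (i : ℤ) = ((v : G) : G ⧸ H)
    rw [zpow_natCast, ← QuotientGroup.mk_pow, QuotientGroup.eq]
    exact hi
  · rw [Nat.card_zpowers]
    refine orderOf_dvd_of_pow_eq_one ?_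
    rw [← QuotientGroup.mk_pow, QuotientGroup.eq_one_iff]
    exact hgp

theorem exists_nat_pow {G : Type*} [Group G] [Finite G] (g : G) (i : ℤ) : ∃ n : ℕ, g ^ n = g ^ i :=
  (isOfFinOrder_of_finite g).mem_powers_iff_mem_zpowers.2 (Subgroup.zpow_mem _ (Subgroup.mem_zpowers g) i)

theorem exists_half (hp5 : 5 ≤ p) : ∃ t' : ℕ, ((2 : ℕ) : ZMod p) * (t' : ZMod p) = 1 := by
  obtain ⟨k, hk⟩ := hp.out.odd_of_ne_two (by omega)
  refine ⟨k + 1, ?_⟩
  rw [← Nat.cast_mul, show 2 * (k + 1) = p + 1 by omega, Nat.cast_add, ZMod.natCast_self, zero_add,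
    Nat.cast_one]

theorem two_sq_ne_one (hp5 : 5 ≤ p) : ((2 : ℕ) : ZMod p) ^ 2 ≠ 1 := by
  intro e
  have h3 : ((3 : ℕ) : ZMod p) = 0 := by
    have e' : ((2 : ZMod p)) ^ 2 = 1 := by exact_mod_cast e
    push_cast
    linear_combination e'
  have := Nat.le_of_dvd (by norm_num) ((ZMod.natCast_eq_zero_iff 3 p).1 h3)
  omega

variable {Ω : Type u} [Group Ω] {S : Subgroup Ω} [Finite S] {x y z : Ω} {m s : ℕ}

namespace Fam

variable (h : Fam p S x y z m s)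
include h

/-- Conjugation acts trivially on `B` modulo the centre. -/
theorem conj_B {g b : Ω} (hg : g ∈ S) (hb : b ∈ grpB p y z) :
    ∃ c ∈ grpZ p z, g⁻¹ * b * g = b * c := by
  obtain ⟨k, a, ha, rfl⟩ := h.decomp hg
  obtain ⟨i, j, rfl⟩ := h.exists_B hb
  obtain ⟨e, he⟩ := h.conj_pow_A k
  refine ⟨z ^ (((s * p ^ m : ℕ) : ℤ) * (k * i + e * ((p : ℤ) * j))), h.mem_Z_of_dvd
    (dvd_mul_of_dvd_left (Int.natCast_dvd_natCast.2
      (dvd_mul_of_dvd_right (dvd_pow_self p (by have := h.m1; omega)) s)) _), ?_⟩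
  rw [mul_inv_rev,
    show a⁻¹ * (x ^ k)⁻¹ * (y ^ i * z ^ ((p : ℤ) * j)) * (x ^ k * a) =
      a⁻¹ * ((x ^ k)⁻¹ * (y ^ i * z ^ ((p : ℤ) * j)) * x ^ k) * a by group, he, mul_assoc,
    (h.commute_A (h.mem_A _ _) ha).eq, inv_mul_cancel_left, mul_assoc, ← zpow_add, zpow_add y,
    show (k : ℤ) * ((p : ℤ) * j) = (p : ℤ) * ((k : ℤ) * j) by ring, zpow_mul y, zpow_natCast y p,
    h.yp, one_zpow, mul_one]

theorem exists_B_nat {b : Ω} (hb : b ∈ grpB p y z) : ∃ j : ℕ, (y ^ j)⁻¹ * b ∈ grpZ p z := by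
  obtain ⟨i, j, rfl⟩ := h.exists_B hb
  refine ⟨((i : ℤ) : ZMod p).val, ?_⟩
  have e : y ^ i = y ^ ((i : ℤ) : ZMod p).val := by
    have := h.ext_A (i := i) (j := 0) (k := ((((i : ℤ) : ZMod p).val : ℕ) : ℤ)) (l := 0)
      (by simp) (by simp)
    simpa only [zpow_zero, mul_one, zpow_natCast] using this
  rw [← e, inv_mul_cancel_left]
  exact h.mem_Z_of_dvd (dvd_mul_right _ _)

theorem dvd_of_y_pow {j : ℕ} (hj : y ^ j ∈ grpZ p z) : p ∣ j := by
  refine Int.natCast_dvd_natCast.1 (h.dvd_of_mem_Z (i := j) (j := 0) ?_).1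
  simpa using hj

theorem N_rebase {u y' : Ω} (hu : u ∈ grpN p x y z) (huA : u ∉ grpA y z)
    (hB : grpB p y' z = grpB p y z) : grpN p u y' z = grpN p x y z := by
  obtain ⟨k, b, hb, rfl⟩ := h.exists_N hu
  have hB' : grpB p y z ≤ grpN p (x ^ k * b) y' z := by
    rw [← hB]; exact Subgroup.closure_mono fun c hc => Or.inr hc
  have hk : ¬ p ∣ k := fun hd => huA ((h.mem_A_iff (h.B_le_A hb)).2 hd)
  obtain ⟨u, v, huv⟩ : IsCoprime (p : ℤ) (k : ℤ) :=
    (Nat.prime_iff_prime_int.1 hp.out).coprime_iff_not_dvd.2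
      (fun hd => hk (Int.natCast_dvd_natCast.1 hd))
  have hxk : x ^ k ∈ grpN p (x ^ k * b) y' z :=
    (Subgroup.mul_mem_cancel_right _ (hB' hb)).1 (Subgroup.subset_closure (Or.inl rfl))
  refine le_antisymm ((Subgroup.closure_le _).2 ?_) ((Subgroup.closure_le _).2 ?_)
  · rintro c (rfl | rfl | rfl)
    exacts [hu, h.B_le_N (hB ▸ mem_left _ _), h.B_le_N (h.Z_le_B h.zp_mem_Z)]
  · rintro c (rfl | rfl | rfl)
    · have e1 : c = (c ^ p) ^ u * (c ^ k) ^ v := by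
        rw [← zpow_natCast c p, ← zpow_natCast c k, ← zpow_mul, ← zpow_mul, ← zpow_add,
          mul_comm (p : ℤ) u, mul_comm (k : ℤ) v, huv, zpow_one]
      exact (congrArg (fun r => r ∈ grpN p (c ^ k * b) y' z) e1).mpr
        (mul_mem (Subgroup.zpow_mem _ (hB' (h.Z_le_B h.xp_mem_Z)) _) (Subgroup.zpow_mem _ hxk _))
    · exact hB' h.y_mem_B
    · exact hB' (h.Z_le_B h.zp_mem_Z)

theorem Z_invariant (α : MulAut (grpN p x y z)) (v : grpN p x y z) (hv : (v : Ω) ∈ grpZ p z) :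
    ((α v : grpN p x y z) : Ω) ∈ grpZ p z := by
  have hc : ∀ w : grpN p x y z, Commute ((α v : grpN p x y z) : Ω) w := fun w => by
    have e : v * α.symm w = α.symm w * v :=
      Subtype.ext (h.Z_central hv (h.N_le (α.symm w).2)).eq
    have := congrArg α e
    rw [map_mul, map_mul, MulEquiv.apply_symm_apply] at this
    exact congrArg Subtype.val this
  exact h.mem_Z_of_commute_x
    (h.mem_A_of_commute_y (h.N_le (α v).2) (hc ⟨y, h.B_le_N h.y_mem_B⟩)) (hc ⟨x, h.x_mem_N⟩)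

/-- No automorphism of `⟨x⟩ B` in the system moves `B`. -/
theorem no_moving {F : FusionSystem S} (hS : IsPGroup p S) (hF : F.IsSaturated p) (hp5 : 5 ≤ p)
    {γ : MulAut (grpN p x y z)} (hγ : γ ∈ F.autGroup (grpN p x y z))
    (hγy : ((γ ⟨y, h.B_le_N h.y_mem_B⟩ : grpN p x y z) : Ω) ∉ grpA y z) : False := by
  have := finite_of_le h.N_le
  set Y : grpN p x y z := ⟨y, h.B_le_N h.y_mem_B⟩ with hY
  set X : grpN p x y z := γ Y with hX
  obtain ⟨y', s', h', hA, hB⟩ := h.rebase (h.N_le X.2) hγy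
  have hN : grpN p (X : Ω) y' z = grpN p x y z := h.N_rebase X.2 hγy hB
  let Zn : Subgroup (grpN p x y z) := (grpZ p z).subgroupOf _
  have : Zn.Normal := ⟨fun v hv g => by
    show (g : Ω) * (v : Ω) * (g : Ω)⁻¹ ∈ grpZ p z
    rw [← (h.Z_central (c := (v : Ω)) hv (h.N_le g.2)).eq, mul_inv_cancel_right]
    exact hv⟩
  have hcomm : ∀ a b : grpN p x y z, (a * b)⁻¹ * (b * a) ∈ Zn := fun a b => by
    obtain ⟨i, u, hu, hau⟩ := h.exists_N a.2
    obtain ⟨j, v, hv, hbv⟩ := h.exists_N b.2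
    obtain ⟨c, hc, hcu⟩ := h.conj_B (pow_mem h.hx j) hu
    obtain ⟨d, hd, hdv⟩ := h.conj_B (pow_mem h.hx i) hv
    show ((a : Ω) * b)⁻¹ * ((b : Ω) * a) ∈ grpZ p z
    have hu' := h.B_le_A hu
    have hv' := h.B_le_A hv
    have hc' := h.B_le_A (h.Z_le_B hc)
    have hd' := h.B_le_A (h.Z_le_B hd)
    have e1 : (a : Ω) * b = x ^ i * x ^ j * (u * v) * c := by
      rw [hau, hbv, show x ^ i * u * (x ^ j * v) = x ^ i * x ^ j * ((x ^ j)⁻¹ * u * x ^ j) * v by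
        group, hcu, mul_assoc _ (u * c), mul_assoc u c, (h.commute_A hc' hv').eq]
      simp only [mul_assoc]
    have e2 : (b : Ω) * a = x ^ i * x ^ j * (u * v) * d := by
      rw [hau, hbv, show x ^ j * v * (x ^ i * u) = x ^ j * x ^ i * ((x ^ i)⁻¹ * v * x ^ i) * u by
        group, hdv, mul_assoc _ (v * d), mul_assoc v d, (h.commute_A hd' hu').eq,
        ← mul_assoc v, (h.commute_A hv' hu').eq, ← pow_add, ← pow_add, add_comm]
      simp only [mul_assoc]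
    rw [e1, e2, show (x ^ i * x ^ j * (u * v) * c)⁻¹ * (x ^ i * x ^ j * (u * v) * d) = c⁻¹ * d by
      group]
    exact mul_mem (inv_mem hc) hd
  have hspan : ∀ g : grpN p x y z, ∃ i j : ℕ, (X ^ i * Y ^ j)⁻¹ * g ∈ Zn := fun g => by
    have hg : (g : Ω) ∈ grpN p (X : Ω) y' z := by rw [hN]; exact g.2
    obtain ⟨i, b, hb, hgb⟩ := h'.exists_N hg
    obtain ⟨j, hj⟩ := h.exists_B_nat (hB ▸ hb)
    refine ⟨i, j, ?_⟩
    show ((X : Ω) ^ i * y ^ j)⁻¹ * (g : Ω) ∈ grpZ p z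
    rwa [hgb, mul_inv_rev, mul_assoc, inv_mul_cancel_left]
  have hind : ∀ i j : ℕ, X ^ i * Y ^ j ∈ Zn → p ∣ i ∧ p ∣ j := fun i j hij => by
    have hij' : (X : Ω) ^ i * y ^ j ∈ grpZ p z := hij
    have hi : p ∣ i := by
      refine h'.pow_mem_A_iff.1 ?_
      rw [hA]
      exact (Subgroup.mul_mem_cancel_right _ (Subgroup.pow_mem _ h.y_mem_A j)).1
        (h.B_le_A (h.Z_le_B hij'))
    refine ⟨hi, h.dvd_of_y_pow ?_⟩
    obtain ⟨c, rfl⟩ := hi
    rw [pow_mul] at hij'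
    exact (Subgroup.mul_mem_cancel_left _ (Subgroup.pow_mem _ h'.xp_mem_Z c)).1 hij'
  have hzn : z ∈ Subgroup.normalizer (grpN p x y z : Set Ω) := h.S_le_normalizer_N h.hz
  obtain ⟨a, ha⟩ := h.exists_B_nat (hB ▸ h'.y_mem_B)
  have hap : ¬ p ∣ a := by
    rintro ⟨c, rfl⟩
    rw [pow_mul, h.yp, one_pow, inv_one, one_mul] at ha
    obtain ⟨d, hd⟩ := Subgroup.mem_zpowers_iff.1 ha
    exact h'.hyz (Subgroup.mem_zpowers_iff.2 ⟨(p : ℤ) * d, by rw [zpow_mul, zpow_natCast, hd]⟩)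
  obtain ⟨t', ht'⟩ := exists_half (p := p) hp5
  obtain ⟨δ, hδ, hδX, hδY⟩ := exists_diag Zn (F.autGroup _) (fun α _ v hv => h.Z_invariant α v hv)
    X Y hcomm h'.xp_mem_Z
    (show y ^ p ∈ grpZ p z by rw [h.yp]; exact one_mem _)
    hspan hind γ hγ rfl (conjAut hzn) (conjAut_mem_autGroup F h.N_le h.hz hzn)
    (show y⁻¹ * (z * y * z⁻¹) ∈ grpZ p z by
      rw [h.yz.symm.eq, mul_inv_cancel_right, inv_mul_cancel]; exact one_mem _)
    a hap
    (show ((X : Ω) * y ^ a)⁻¹ * (z * (X : Ω) * z⁻¹) ∈ grpZ p z by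
      rw [h'.conj_z, mul_inv_rev, mul_assoc, inv_mul_cancel_left]; exact ha)
    2 t' ht'
  -- extend to `S`
  have hδB : ∀ v : grpN p x y z, (v : Ω) ∈ grpB p y z → ((δ v : grpN p x y z) : Ω) ∈ grpB p y z := by
    intro v hv
    obtain ⟨j, hj⟩ := h.exists_B_nat hv
    have e : v = Y ^ j * ((Y ^ j)⁻¹ * v) := by rw [mul_inv_cancel_left]
    rw [e, map_mul, map_pow]
    refine mul_mem (Subgroup.pow_mem _ ?_ j) (h.Z_le_B (h.Z_invariant δ _ hj))
    have h1 : (y ^ t')⁻¹ * ((δ Y : grpN p x y z) : Ω) ∈ grpB p y z := h.Z_le_B hδY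
    exact (Subgroup.mul_mem_cancel_left _ (inv_mem (Subgroup.pow_mem _ h.y_mem_B t'))).1 h1
  set φ := restr hN.le (autHom δ) with hφ
  have hφm : φ ∈ F.Hom (grpN p (X : Ω) y' z) := restr_mem F (autHom_mem F h.N_le hδ) hN.le
  have hr : φ.range = grpN p (X : Ω) y' z := by
    have := finite_of_le h'.N_le
    refine eq_of_le_of_card ?_ (card_range_eq (F.injective_of_mem hφm)).ge
    rintro _ ⟨v, rfl⟩
    exact hN.ge (δ ⟨v.1, hN.le v.2⟩).2
  obtain ⟨ψ, hψ, hψe⟩ := h'.exists_extension hS hF hφm hr fun v hv hvB => by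
    rw [hB] at hvB ⊢
    exact hδB ⟨v, hN.le hv⟩ hvB
  refine h'.no_endo hψ (t := 2) (two_sq_ne_one hp5)
    (a := ((X : Ω) ^ 2)⁻¹ * ((δ X : grpN p x y z) : Ω)) ?_ ?_ ?_
  · exact h'.B_le_A (h'.Z_le_B hδX)
  · rw [mul_inv_cancel_left, hψe (X : Ω) h'.x_mem_N]
    rfl
  · rw [hψe y' (h'.B_le_N h'.y_mem_B), hA]
    exact h.B_le_A (hδB ⟨y', _⟩ (hB ▸ h'.y_mem_B))

end Fam

end Cfsg.Agent.Lib.RankTwoResistant
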